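import Groth.Agent.Mor.K384.BiratOpen
import Groth.Agent.S7415

/-!
# Birational morphisms: local isomorphisms at the generic points
-/

set_option autoImplicit false
universe u

open CategoryTheory CategoryTheory.Limits AlgebraicGeometry

namespace K384.BiratMain

theorem isLocalIsoAt {X Y : Scheme.{u}} (f : X ⟶ Y) (hYfin : (irreducibleComponents ↥Y).Finite)
    (hiso : ∀ x : X, closure {x} ∈ irreducibleComponents ↥X → IsIso (f.stalkMap x))
    (hf : (LocallyOfFiniteType f ∧ IsReduced Y) ∨ LocallyOfFinitePresentation f) (x : X)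
    (hx : closure {x} ∈ irreducibleComponents ↥X) : SchLoc.IsLocalIsoAt f x := by
  have := hiso x hx
  rcases hf with ⟨hf, hY⟩ | hf
  · have : Y.IsGermInjectiveAt (f x) := Groth.Agent.S7415.result Y hYfin (f x)
    exact K384.LocalIso.isLocalIsoAt_of_isGermInjectiveAt f x
  · exact K384.LocalIso.isLocalIsoAt_of_lfp f x

end K384.BiratMain
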