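import Groth.Agent.Ega4B.NagIntClos
import Groth.Agent.Ega1.GenPts
import Mathlib.AlgebraicGeometry.Normalization
import Mathlib.AlgebraicGeometry.ResidueField
import Mathlib.AlgebraicGeometry.Morphisms.Finite
import Mathlib.RingTheory.RingHom.EssFiniteType

/-!
# Finiteness of the relative normalization over Nagata bases

* `essFiniteType_evaluation`: `Γ(S,U) → κ(s)` is essentially of finite type.
* `finite_integralClosure`: finiteness of the integral closure of `Γ(S,U)` in `Γ(X, f⁻¹U)`.
* `isFinite_fromNormalization`.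
-/

set_option autoImplicit false
universe u

open CategoryTheory CategoryTheory.Limits AlgebraicGeometry

namespace K384.NormFinite

open Groth.Agent.Ega1.GenPts

theorem essFiniteType_evaluation {S : Scheme.{u}} {U : S.Opens} (hU : IsAffineOpen U) (s : S)
    (hs : s ∈ U) : (S.evaluation U s hs).hom.EssFiniteType := by
  change ((S.presheaf.germ U s hs) ≫ S.residue s).hom.EssFiniteType
  rw [CommRingCat.hom_comp]
  refine RingHom.EssFiniteType.comp ?_
    (RingHom.FiniteType.of_surjective _ IsLocalRing.residue_surjective).essFiniteType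
  algebraize [(S.presheaf.germ U s hs).hom]
  have := hU.isLocalization_stalk ⟨s, hs⟩
  exact Algebra.EssFiniteType.of_isLocalization _ (hU.primeIdealOf ⟨s, hs⟩).asIdeal.primeCompl

theorem essFiniteType_residueFieldMap {X S : Scheme.{u}} (f : X ⟶ S) [LocallyOfFiniteType f] (x : X) :
    (f.residueFieldMap x).hom.EssFiniteType :=
  RingHom.EssFiniteType.residueFieldMap (LocallyOfFiniteType.stalkMap f x)

/-- A section of a reduced scheme which vanishes at all generic points is zero. -/
theorem eq_zero_of_generic {X : Scheme.{u}} [IsReduced X] (W : X.Opens) (s : Γ(X, W))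
    (h : ∀ (x : X) (hx : x ∈ W), closure {x} ∈ irreducibleComponents ↥X → X.evaluation W x hx s = 0) :
    s = 0 := by
  rw [← basicOpen_eq_bot_iff]
  by_contra hne
  obtain ⟨y, hy⟩ := (TopologicalSpace.Opens.ne_bot_iff_nonempty _).mp hne
  obtain ⟨z, hz⟩ : ∃ z : X, IsGenericPoint z (irreducibleComponent y) :=
    QuasiSober.sober isIrreducible_irreducibleComponent isClosed_irreducibleComponent
  have hzy : z ⤳ y := hz.specializes mem_irreducibleComponent
  have hz' : closure {z} ∈ irreducibleComponents X := by
    rw [hz.def]; exact irreducibleComponent_mem_irreducibleComponents y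
  have hzs : z ∈ X.basicOpen s := hzy.mem_open (X.basicOpen s).isOpen hy
  have := h z (X.basicOpen_le s hzs) hz'
  rw [Scheme.evaluation_eq_zero_iff_notMem_basicOpen] at this
  exact this hzs

/-- Finitely many generic points in a quasi-compact open. -/
theorem finite_generic {X : Type*} [TopologicalSpace X] [QuasiSober X] [T0Space X] (W : Set X)
    (hW : IsCompact W)
    (hfin : LocallyFinite (fun Z : ↥(irreducibleComponents X) => (Z : Set X))) :
    {x : X | x ∈ W ∧ closure {x} ∈ irreducibleComponents X}.Finite := by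
  have h1 := hfin.finite_nonempty_inter_compact hW
  let g : {x : X | x ∈ W ∧ closure {x} ∈ irreducibleComponents X} → irreducibleComponents X :=
    fun x => ⟨closure {x.1}, x.2.2⟩
  have hg : Function.Injective g := by
    intro a b hab
    have e : closure {a.1} = closure {b.1} := congrArg Subtype.val hab
    exact Subtype.ext (IsGenericPoint.eq (S := closure {a.1}) rfl e.symm)
  refine Set.finite_coe_iff.mp ?_
  refine @Finite.of_injective _ _ (h1.to_subtype) (fun x => ⟨g x, x.1, subset_closure rfl, x.2.1⟩) ?_
  intro a b hab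
  exact hg (congrArg Subtype.val hab)

theorem finite_integralClosure {X S : Scheme.{u}} (f : X ⟶ S) [QuasiCompact f] [IsReduced X]
    (U : S.Opens) (hU : IsAffineOpen U) (hR : CAlg.IsNagata Γ(S, U))
    (hfin : LocallyFinite (fun Z : ↥(irreducibleComponents ↥X) => (Z : Set ↥X)))
    (hres : ∀ x : X, closure {x} ∈ irreducibleComponents ↥X →
      (f.residueFieldMap x).hom.EssFiniteType) :
    letI := (f.app U).hom.toAlgebra
    Module.Finite Γ(S, U) (integralClosure Γ(S, U) Γ(X, f ⁻¹ᵁ U)) := by
  let algB : Algebra Γ(S, U) Γ(X, f ⁻¹ᵁ U) := (f.app U).hom.toAlgebra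
  have hN := hR.1
  let G := {x : X | x ∈ f ⁻¹ᵁ U ∧ closure {x} ∈ irreducibleComponents ↥X}
  have hG : G.Finite := finite_generic _ (f.isCompact_preimage hU.isCompact) hfin
  have := hG.to_subtype
  let ρ (x : G) : Γ(S, U) →+* X.residueField x.1 :=
    (f.app U ≫ X.evaluation (f ⁻¹ᵁ U) x.1 x.2.1).hom
  let algK (x : G) : Algebra Γ(S, U) (X.residueField x.1) := (ρ x).toAlgebra
  let ε (x : G) : Γ(X, f ⁻¹ᵁ U) →ₐ[Γ(S, U)] X.residueField x.1 :=
    { (X.evaluation (f ⁻¹ᵁ U) x.1 x.2.1).hom with commutes' := fun r => rfl }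
  have hess (x : G) : Algebra.EssFiniteType Γ(S, U) (X.residueField x.1) := by
    have h1 : (ρ x).EssFiniteType := by
      have h2 : ρ x = ((S.evaluation U (f x.1) x.2.1) ≫ f.residueFieldMap x.1).hom := by
        exact congrArg CommRingCat.Hom.hom (Scheme.evaluation_naturality f (V := U) x.1 x.2.1).symm
      rw [h2, CommRingCat.hom_comp]
      exact (essFiniteType_evaluation hU _ _).comp (hres x.1 x.2.2)
    exact h1
  have hfinK (x : G) : Module.Finite Γ(S, U) (integralClosure Γ(S, U) (X.residueField x.1)) :=
    Groth.Agent.Ega4B.NagIntClos.finite_of_isReduced hR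
  let φ : integralClosure Γ(S, U) Γ(X, f ⁻¹ᵁ U) →ₗ[Γ(S, U)]
      (∀ x : G, integralClosure Γ(S, U) (X.residueField x.1)) :=
    LinearMap.pi fun x =>
      { toFun := fun b => ⟨ε x b.1, b.2.map (ε x)⟩
        map_add' := fun a b => Subtype.ext (map_add (ε x) a.1 b.1)
        map_smul' := fun r a => Subtype.ext (map_smul (ε x) r a.1) }
  have hφ : Function.Injective φ := by
    rw [injective_iff_map_eq_zero]
    intro a ha
    apply Subtype.ext
    apply eq_zero_of_generic
    intro x hx hx'
    have h1 := congrFun ha ⟨x, hx, hx'⟩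
    exact congrArg Subtype.val h1
  exact Module.Finite.of_injective φ hφ

theorem isFinite_fromNormalization {X S : Scheme.{u}} (f : X ⟶ S)
    [QuasiCompact f] [QuasiSeparated f] [IsReduced X]
    (hS : ∀ U : S.affineOpens, CAlg.IsNagata Γ(S, U))
    (hfin : LocallyFinite (fun Z : ↥(irreducibleComponents ↥X) => (Z : Set ↥X)))
    (hres : ∀ x : X, closure {x} ∈ irreducibleComponents ↥X →
      (f.residueFieldMap x).hom.EssFiniteType) :
    IsFinite f.fromNormalization := by
  rw [isFinite_iff]
  refine ⟨inferInstance, fun U hU => ?_⟩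
  have hfin := finite_integralClosure f U hU (hS ⟨U, hU⟩) hfin hres
  rw [Scheme.Hom.fromNormalization_app _ hU, CommRingCat.hom_comp]
  refine RingHom.Finite.comp ?_ ?_
  · exact RingHom.Finite.of_surjective _
      (f.normalizationObjIso hU).symm.commRingCatIsoToRingEquiv.surjective
  · exact hfin

end K384.NormFinite
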