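import Groth.Agent.Mor.K384.NormRing
import Groth.Agent.Mor.K384.NormFinite
import Groth.Agent.CurvesC.NormSections
import Groth.Agent.S2255
import Groth.Prelude.Def_Pi1

/-!
# The relative normalization of a scheme in a normal scheme is normal
-/

set_option autoImplicit false
universe u

open CategoryTheory CategoryTheory.Limits AlgebraicGeometry

namespace K384.NormNormal

open Groth.Agent.Ega1.GenPts

/-- Restriction of sections. -/
noncomputable def res {X : Scheme.{u}} {U V : X.Opens} (h : V ≤ U) : Γ(X, U) →+* Γ(X, V) :=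
  (X.presheaf.map (homOfLE h).op).hom

theorem subsingleton_of_eq_bot {X : Scheme.{u}} {U : X.Opens} (h : U = ⊥) : Subsingleton Γ(X, U) :=
  CommRingCat.subsingleton_of_isTerminal (X.sheaf.isTerminalOfEqEmpty h)

/-- Gluing on a disjoint cover by two opens. -/
theorem exists_glue {X : Scheme.{u}} {W W₁ W₂ : X.Opens} (h₁ : W₁ ≤ W) (h₂ : W₂ ≤ W)
    (hcov : W ≤ W₁ ⊔ W₂) (hdisj : W₁ ⊓ W₂ = ⊥) (a : Γ(X, W₁)) (b : Γ(X, W₂)) :
    ∃ c : Γ(X, W), res h₁ c = a ∧ res h₂ c = b := by
  let U : ULift.{u} Bool → X.Opens := fun i => if i.down then W₁ else W₂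
  let iUW : ∀ i, U i ⟶ W := fun i => homOfLE (by rcases i with ⟨_ | _⟩ <;> simpa [U])
  let s : ∀ i, Γ(X, U i) := fun i => match i with
    | ⟨true⟩ => a
    | ⟨false⟩ => b
  have hc : TopCat.Presheaf.IsCompatible X.presheaf U s := by
    have hb : ∀ i j, i ≠ j → U i ⊓ U j = ⊥ := by
      rintro ⟨_ | _⟩ ⟨_ | _⟩ hij
      · exact absurd rfl hij
      · change W₂ ⊓ W₁ = ⊥; rw [inf_comm]; exact hdisj
      · exact hdisj
      · exact absurd rfl hij
    intro i j
    by_cases hij : i = j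
    · subst hij; rfl
    · have := subsingleton_of_eq_bot (hb i j hij)
      exact Subsingleton.elim (α := Γ(X, U i ⊓ U j)) _ _
  have hcov' : W ≤ iSup U := hcov.trans (sup_le (le_iSup U ⟨true⟩) (le_iSup U ⟨false⟩))
  obtain ⟨c, hc, -⟩ := X.sheaf.existsUnique_gluing' U W iUW hcov' s hc
  exact ⟨c, hc ⟨true⟩, hc ⟨false⟩⟩

theorem eq_of_res {X : Scheme.{u}} {W W₁ W₂ : X.Opens} (h₁ : W₁ ≤ W) (h₂ : W₂ ≤ W)
    (hcov : W ≤ W₁ ⊔ W₂) {c c' : Γ(X, W)} (e₁ : res h₁ c = res h₁ c') (e₂ : res h₂ c = res h₂ c') :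
    c = c' :=
  X.sheaf.eq_of_locally_eq₂ (homOfLE h₁) (homOfLE h₂) hcov c c' e₁ e₂

/-- A nonempty irreducible open all of whose local rings are normal domains has an integrally closed
domain of sections. -/
theorem normal_sections {Y : Scheme.{u}} (hY : Pi1.IsNormalScheme Y) (W : Y.Opens)
    (hW : IsIrreducible (W : Set Y)) : IsDomain Γ(Y, W) ∧ IsIntegrallyClosed Γ(Y, W) := by
  have hst : ∀ x : W.toScheme, IsDomain (W.toScheme.presheaf.stalk x) := by
    intro x
    have := (hY x.1).1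
    exact (W.stalkIso x).commRingCatIsoToRingEquiv.toMulEquiv.isDomain _
  have : IsReduced W.toScheme := by
    have : ∀ x : W.toScheme, _root_.IsReduced (W.toScheme.presheaf.stalk x) := by
      intro x
      have := hst x
      infer_instance
    exact isReduced_of_isReduced_stalk _
  have : IrreducibleSpace W.toScheme := Subtype.irreducibleSpace hW
  have : IsIntegral W.toScheme := isIntegral_of_irreducibleSpace_of_isReduced _
  have hn : Pi1.IsNormalScheme W.toScheme := by
    intro x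
    refine ⟨hst x, ?_⟩
    have := (hY x.1).2
    exact IsIntegrallyClosed.of_equiv (W.stalkIso x).symm.commRingCatIsoToRingEquiv
  have h1 : IsIntegrallyClosed Γ(W.toScheme, ⊤) := Groth.Agent.S2102.result W.toScheme hn
  have h2 : IsDomain Γ(W.toScheme, ⊤) := inferInstance
  exact ⟨W.topIso.symm.commRingCatIsoToRingEquiv.toMulEquiv.isDomain _,
    IsIntegrallyClosed.of_equiv W.topIso.commRingCatIsoToRingEquiv⟩

/-- If local rings of `Y` are domains and the components are locally finite, the components are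
clopen. -/
theorem isOpen_component {Y : Scheme.{u}} (hY : ∀ y : Y, IsDomain (Y.presheaf.stalk y))
    (hfin : LocallyFinite (fun Z : ↥(irreducibleComponents ↥Y) => (Z : Set ↥Y)))
    {Z : Set Y} (hZ : Z ∈ irreducibleComponents ↥Y) : IsOpen Z := by
  have hcl : IsClosed (⋃ Z' : {Z' : irreducibleComponents ↥Y // (Z' : Set ↥Y) ≠ Z},
      ((Z' : irreducibleComponents ↥Y) : Set ↥Y)) := by
    refine LocallyFinite.isClosed_iUnion ?_ ?_
    · exact hfin.comp_injective (g := fun Z' : {Z' : irreducibleComponents ↥Y // (Z' : Set ↥Y) ≠ Z} =>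
        (Z' : irreducibleComponents ↥Y)) Subtype.val_injective
    · intro Z'
      exact isClosed_of_mem_irreducibleComponents _ Z'.1.2
  have hcompl : Z = (⋃ Z' : {Z' : irreducibleComponents ↥Y // (Z' : Set ↥Y) ≠ Z},
      ((Z' : irreducibleComponents ↥Y) : Set ↥Y))ᶜ := by
    ext y
    simp only [Set.mem_compl_iff, Set.mem_iUnion, not_exists]
    constructor
    · intro hy Z' hy'
      exact Z'.2 (Groth.Agent.CurvesC.NormSections.eq_of_mem_of_mem (hY y) Z'.1.2 hZ hy' hy)
    · intro hy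
      by_contra hne
      exact hy ⟨⟨irreducibleComponent y, irreducibleComponent_mem_irreducibleComponents y⟩,
        fun e => hne (by rw [← e]; exact mem_irreducibleComponent)⟩ mem_irreducibleComponent
  rw [hcompl]; exact hcl.isOpen_compl

theorem mem_basicOpen_of_res {X : Scheme.{u}} {W W₁ : X.Opens} (h₁ : W₁ ≤ W) {c : Γ(X, W)}
    (e : res h₁ c = 1) {x : X} (hx : x ∈ W₁) : x ∈ X.basicOpen c := by
  have h2 : x ∈ X.basicOpen (X.presheaf.map (homOfLE h₁).op c) := by
    have h3 : X.presheaf.map (homOfLE h₁).op c = 1 := e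
    rw [h3, Scheme.basicOpen_of_isUnit X isUnit_one]
    exact hx
  rw [Scheme.basicOpen_res] at h2
  exact h2.2

section Main

variable {X Y : Scheme.{u}} (f : Y ⟶ X) [QuasiCompact f] [QuasiSeparated f] {U : X.Opens}
  (hU : IsAffineOpen U)

/-- The idempotent of a clopen part of `f⁻¹U`, on the normalization. -/
theorem exists_idem {W₁ W₂ : Y.Opens} (h₁ : W₁ ≤ f ⁻¹ᵁ U) (h₂ : W₂ ≤ f ⁻¹ᵁ U)
    (hcov : f ⁻¹ᵁ U ≤ W₁ ⊔ W₂) (hdisj : W₁ ⊓ W₂ = ⊥) :
    letI := (f.app U).hom.toAlgebra
    ∃ (e' : Γ(f.normalization, f.fromNormalization ⁻¹ᵁ U))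
      (e : integralClosure Γ(X, U) Γ(Y, f ⁻¹ᵁ U)),
      (f.normalizationObjIso hU).hom e' = e ∧ e * e = e ∧ e' * e' = e' ∧
      res h₁ (e : Γ(Y, f ⁻¹ᵁ U)) = 1 ∧ res h₂ (e : Γ(Y, f ⁻¹ᵁ U)) = 0 ∧
      (∀ y ∈ W₁, f.toNormalization y ∈ f.normalization.basicOpen e') ∧
      (∀ y ∈ W₂, f.toNormalization y ∈ f.normalization.basicOpen (1 - e')) := by
  let := (f.app U).hom.toAlgebra
  obtain ⟨e, he1, he2⟩ := exists_glue h₁ h₂ hcov hdisj 1 0
  have hee : e * e = e := by
    apply eq_of_res h₁ h₂ hcov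
    · rw [map_mul, he1, one_mul]
    · rw [map_mul, he2, zero_mul]
  have hint : IsIntegral Γ(X, U) e := by
    refine ⟨Polynomial.X * (Polynomial.X - Polynomial.C 1), Polynomial.monic_X.mul
      (Polynomial.monic_X_sub_C 1), ?_⟩
    rw [Polynomial.eval₂_mul, Polynomial.eval₂_sub, Polynomial.eval₂_X, Polynomial.eval₂_C,
      map_one, mul_sub, hee, mul_one, sub_self]
  let e₀ : integralClosure Γ(X, U) Γ(Y, f ⁻¹ᵁ U) := ⟨e, hint⟩
  have he₀ : e₀ * e₀ = e₀ := Subtype.ext hee
  let e' : Γ(f.normalization, f.fromNormalization ⁻¹ᵁ U) := (f.normalizationObjIso hU).inv e₀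
  have he' : (f.normalizationObjIso hU).hom e' = e₀ :=
    (f.normalizationObjIso hU).commRingCatIsoToRingEquiv.apply_symm_apply e₀
  have he'e : e' * e' = e' := by
    apply (f.normalizationObjIso hU).commRingCatIsoToRingEquiv.injective
    rw [map_mul]
    change (f.normalizationObjIso hU).hom e' * (f.normalizationObjIso hU).hom e' =
      (f.normalizationObjIso hU).hom e'
    rw [he']; exact he₀
  have hle : f ⁻¹ᵁ U ≤ f.toNormalization ⁻¹ᵁ f.fromNormalization ⁻¹ᵁ U := by
    simp [← Scheme.Hom.comp_preimage]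
  have happ : f.toNormalization.appLE (f.fromNormalization ⁻¹ᵁ U) (f ⁻¹ᵁ U) hle e' = e := by
    have h3 := f.normalizationObjIso_hom_val hU
    have h4 := congr($h3 e')
    change ((f.normalizationObjIso hU).hom e' : integralClosure Γ(X, U) Γ(Y, f ⁻¹ᵁ U)).1 = _ at h4
    rw [he'] at h4
    exact h4.symm
  refine ⟨e', e₀, he', he₀, he'e, he1, he2, ?_, ?_⟩
  · intro y hy
    have h5 : y ∈ Y.basicOpen (f.toNormalization.appLE (f.fromNormalization ⁻¹ᵁ U) (f ⁻¹ᵁ U) hle e') := by
      rw [happ]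
      exact mem_basicOpen_of_res h₁ he1 hy
    rw [Scheme.basicOpen_appLE] at h5
    exact h5.2
  · intro y hy
    have h5 : y ∈ Y.basicOpen
        (f.toNormalization.appLE (f.fromNormalization ⁻¹ᵁ U) (f ⁻¹ᵁ U) hle (1 - e')) := by
      rw [map_sub, map_one, happ]
      refine mem_basicOpen_of_res h₂ ?_ hy
      rw [map_sub, he2, map_one, sub_zero]
    rw [Scheme.basicOpen_appLE] at h5
    exact h5.2

omit [QuasiCompact f] [QuasiSeparated f] in
/-- The basic opens of `e` and `1 - e` cover and are disjoint. -/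
theorem idem_cover {T : Scheme.{u}} {V : T.Opens} (e : Γ(T, V)) (he : e * e = e) :
    (∀ t ∈ V, t ∈ T.basicOpen e ∨ t ∈ T.basicOpen (1 - e)) ∧
      (∀ t, t ∈ T.basicOpen e → t ∈ T.basicOpen (1 - e) → False) := by
  constructor
  · intro t ht
    rw [T.mem_basicOpen e t ht, T.mem_basicOpen (1 - e) t ht, map_sub, map_one]
    exact IsLocalRing.isUnit_or_isUnit_one_sub_self _
  · intro t h1 h2
    have h3 : t ∈ T.basicOpen (e * (1 - e)) := by
      rw [Scheme.basicOpen_mul]
      exact ⟨h1, h2⟩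
    rw [mul_sub, mul_one, he, sub_self, Scheme.basicOpen_zero] at h3
    exact h3

theorem stalk_normal_of_isAffineOpen {T : Scheme.{u}} {V : T.Opens} (hV : IsAffineOpen V)
    [IsDomain Γ(T, V)] [IsIntegrallyClosed Γ(T, V)] (x : T) (hx : x ∈ V) :
    IsDomain (T.presheaf.stalk x) ∧ IsIntegrallyClosed (T.presheaf.stalk x) := by
  let _ : Algebra Γ(T, V) (T.presheaf.stalk x) :=
    TopCat.Presheaf.algebra_section_stalk T.presheaf ⟨x, hx⟩
  have hloc : IsLocalization.AtPrime (T.presheaf.stalk x)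
    (hV.primeIdealOf ⟨x, hx⟩).asIdeal := hV.isLocalization_stalk ⟨x, hx⟩
  have hdx : IsDomain (T.presheaf.stalk x) :=
    IsLocalization.isDomain_of_le_nonZeroDivisors (T.presheaf.stalk x)
      (Ideal.primeCompl_le_nonZeroDivisors (hV.primeIdealOf ⟨x, hx⟩).asIdeal)
  exact ⟨hdx, isIntegrallyClosed_of_isLocalization (T.presheaf.stalk x)
    (hV.primeIdealOf ⟨x, hx⟩).asIdeal.primeCompl
    (Ideal.primeCompl_le_nonZeroDivisors (hV.primeIdealOf ⟨x, hx⟩).asIdeal)⟩

variable {hU} in
/-- The clopen decomposition of `f⁻¹U` along an irreducible component. -/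
theorem decomp {Z : Set Y} (hZo : IsOpen Z) (hZc : IsClosed Z) (W : Y.Opens) :
    ∃ W₁ W₂ : Y.Opens, W₁ ≤ W ∧ W₂ ≤ W ∧ W ≤ W₁ ⊔ W₂ ∧ W₁ ⊓ W₂ = ⊥ ∧
      (W₁ : Set Y) = (W : Set Y) ∩ Z ∧ (W₂ : Set Y) = (W : Set Y) ∩ Zᶜ := by
  refine ⟨W ⊓ ⟨Z, hZo⟩, W ⊓ ⟨Zᶜ, hZc.isOpen_compl⟩, inf_le_left, inf_le_left, ?_, ?_, rfl, rfl⟩
  · intro y hy
    by_cases h : y ∈ Z
    · exact Or.inl ⟨hy, h⟩
    · exact Or.inr ⟨hy, h⟩
  · ext y
    constructor
    · rintro ⟨⟨-, h1⟩, ⟨-, h2⟩⟩
      exact h2 h1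
    · intro h; exact h.elim

include f in
theorem eq_of_specializes (hY : ∀ y : Y, IsDomain (Y.presheaf.stalk y))
    (hfin : LocallyFinite (fun Z : ↥(irreducibleComponents ↥Y) => (Z : Set ↥Y)))
    {y y' : Y} (hy : closure {y} ∈ irreducibleComponents ↥Y)
    (hy' : closure {y'} ∈ irreducibleComponents ↥Y)
    (h : f.toNormalization y' ⤳ f.toNormalization y) : y = y' := by
  obtain ⟨_, ⟨U, hU, rfl⟩, hyU, -⟩ := X.isBasis_affineOpens.exists_subset_of_mem_open
    (Set.mem_univ (f y)) isOpen_univ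
  replace hU : IsAffineOpen U := hU
  have hZo := isOpen_component hY hfin hy
  obtain ⟨W₁, W₂, h₁, h₂, hcov, hdisj, hW₁, hW₂⟩ := decomp hZo isClosed_closure (f ⁻¹ᵁ U)
  obtain ⟨e', e, -, -, he', -, -, hy₁, hy₂⟩ := exists_idem f hU h₁ h₂ hcov hdisj
  have hmem : f.toNormalization y ∈ f.normalization.basicOpen e' := by
    apply hy₁
    rw [← SetLike.mem_coe, hW₁]
    exact ⟨hyU, subset_closure rfl⟩
  have hmem' : f.toNormalization y' ∈ f.normalization.basicOpen e' :=
    h.mem_open (f.normalization.basicOpen e').isOpen hmem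
  have hy'U : y' ∈ f ⁻¹ᵁ U := by
    have h3 : f.toNormalization y' ∈ f.fromNormalization ⁻¹ᵁ U :=
      f.normalization.basicOpen_le e' hmem'
    have h4 : f.fromNormalization (f.toNormalization y') = f y' :=
      congr($(f.toNormalization_fromNormalization) y')
    have h5 : f.fromNormalization (f.toNormalization y') ∈ U := h3
    rw [h4] at h5
    exact h5
  have hcl : y' ∈ closure {y} := by
    by_contra hn
    refine (idem_cover e' he').2 _ hmem' (hy₂ y' ?_)
    rw [← SetLike.mem_coe, hW₂]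
    exact ⟨hy'U, hn⟩
  exact closure_mem_irreducibleComponents_iff'.mp hy' _ (specializes_iff_mem_closure.mpr hcl)

include f in
theorem isNormalScheme_normalization (hY : Pi1.IsNormalScheme Y)
    (hfin : LocallyFinite (fun Z : ↥(irreducibleComponents ↥Y) => (Z : Set ↥Y))) :
    Pi1.IsNormalScheme f.normalization := by
  intro x'
  -- a generic point of `Y` whose image specializes to `x'`
  obtain ⟨z, hz⟩ : ∃ z : f.normalization, IsGenericPoint z (irreducibleComponent x') :=
    QuasiSober.sober isIrreducible_irreducibleComponent isClosed_irreducibleComponent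
  have hzx : z ⤳ x' := hz.specializes mem_irreducibleComponent
  have hz' : closure {z} ∈ irreducibleComponents f.normalization := by
    rw [hz.def]; exact irreducibleComponent_mem_irreducibleComponents x'
  obtain ⟨y, hy, hyz⟩ := (Groth.Agent.S2255.result f.toNormalization).mp inferInstance z hz'
  obtain ⟨_, ⟨U, hU, rfl⟩, hxU, -⟩ := X.isBasis_affineOpens.exists_subset_of_mem_open
    (Set.mem_univ (f.fromNormalization x')) isOpen_univ
  replace hU : IsAffineOpen U := hU
  have hyU : f y ∈ U := by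
    have h4 : f.fromNormalization (f.toNormalization y) = f y :=
      congr($(f.toNormalization_fromNormalization) y)
    rw [← h4, hyz]
    exact (hzx.map f.fromNormalization.continuous).mem_open U.isOpen hxU
  have hZo := isOpen_component (fun y => (hY y).1) hfin hy
  obtain ⟨W₁, W₂, h₁, h₂, hcov, hdisj, hW₁, hW₂⟩ := decomp hZo isClosed_closure (f ⁻¹ᵁ U)
  obtain ⟨e', e, hee', hee, he', he₁, he₂, hy₁, hy₂⟩ := exists_idem f hU h₁ h₂ hcov hdisj
  have hyW₁ : y ∈ W₁ := by
    rw [← SetLike.mem_coe, hW₁]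
    exact ⟨hyU, subset_closure rfl⟩
  have hmem : f.toNormalization y ∈ f.normalization.basicOpen e' := hy₁ y hyW₁
  have hx' : x' ∈ f.normalization.basicOpen e' := by
    rcases (idem_cover e' he').1 x' hxU with h | h
    · exact h
    · exfalso
      refine (idem_cover e' he').2 _ hmem ?_
      rw [hyz]
      exact hzx.mem_open (f.normalization.basicOpen (1 - e')).isOpen h
  have hW₁irr : IsIrreducible (W₁ : Set Y) := by
    refine ⟨⟨y, hyW₁⟩, ?_⟩
    refine IsPreirreducible.open_subset (hy.1.2) W₁.isOpen ?_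
    rw [hW₁]; exact Set.inter_subset_right
  obtain ⟨hd, hic⟩ := normal_sections hY W₁ hW₁irr
  have hV₀ : IsAffineOpen (f.fromNormalization ⁻¹ᵁ U) := hU.preimage _
  have hV : IsAffineOpen (f.normalization.basicOpen e') := hV₀.basicOpen e'
  have hloc := hV₀.isLocalization_basicOpen e'
  let algB : Algebra Γ(X, U) Γ(Y, f ⁻¹ᵁ U) := (f.app U).hom.toAlgebra
  let algD : Algebra Γ(X, U) Γ(Y, W₁) := ((res h₁).comp (f.app U).hom).toAlgebra
  let ρ : Γ(Y, f ⁻¹ᵁ U) →ₐ[Γ(X, U)] Γ(Y, W₁) := { res h₁ with commutes' := fun r => rfl }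
  obtain ⟨hdL, hicL⟩ := K384.NormRing.normal_of_isLocalization_away ρ (by
      intro d
      obtain ⟨c, hc, -⟩ := exists_glue h₁ h₂ hcov hdisj d 0
      exact ⟨c, hc⟩) e hee he₁ (by
      intro b hb
      apply eq_of_res h₁ h₂ hcov
      · have hb' : res h₁ b = 0 := hb
        rw [map_mul, hb', mul_zero, map_zero]
      · rw [map_mul, he₂, zero_mul, map_zero])
    (C := Γ(f.normalization, f.fromNormalization ⁻¹ᵁ U))
    (L := Γ(f.normalization, f.normalization.basicOpen e'))
    (f.normalizationObjIso hU).commRingCatIsoToRingEquiv e' hee'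
  exact stalk_normal_of_isAffineOpen hV x' hx'

end Main

end K384.NormNormal
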