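import Groth.Agent.Sga3C.FlatAt
import Groth.Agent.Ega1.GenPts
import Mathlib.AlgebraicGeometry.Morphisms.Preimmersion
import Mathlib.AlgebraicGeometry.Morphisms.Flat
import Mathlib.RingTheory.RingHom.FaithfullyFlat

/-!
# Morphisms inducing isomorphisms of local rings at generic points

* `eq_of_specializes_of_isIso_stalkMap`: if `f.stalkMap x₀` is an isomorphism, `x₀ ⤳ x` and
  `f x = f x₀`, then `x = x₀`.
* `fiber_eq_of_birational`: the set theoretic fibre of a birational morphism over a generic point is a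
  point.
* `isIso_pullback_snd_fromSpecStalk`.
-/

set_option autoImplicit false
universe u

open CategoryTheory CategoryTheory.Limits AlgebraicGeometry

namespace K384.Birat

open Groth.Agent.Ega1.GenPts

theorem eq_of_surjective_stalkSpecializes {X : Scheme.{u}} {x₀ x : X} (h : x₀ ⤳ x)
    (hs : Function.Surjective (X.presheaf.stalkSpecializes h).hom) : x = x₀ := by
  have hl : IsLocalHom (X.presheaf.stalkSpecializes h).hom := .of_surjective _ hs
  have h1 : Spec.map (X.presheaf.stalkSpecializes h) (IsLocalRing.closedPoint (X.presheaf.stalk x₀)) =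
      IsLocalRing.closedPoint (X.presheaf.stalk x) := IsLocalRing.comap_closedPoint _
  have h2 : X.fromSpecStalk x (Spec.map (X.presheaf.stalkSpecializes h)
      (IsLocalRing.closedPoint (X.presheaf.stalk x₀))) =
      X.fromSpecStalk x₀ (IsLocalRing.closedPoint (X.presheaf.stalk x₀)) :=
    congr($(X.SpecMap_stalkSpecializes_fromSpecStalk h)
      (IsLocalRing.closedPoint (X.presheaf.stalk x₀)))
  rw [h1, Scheme.fromSpecStalk_closedPoint, Scheme.fromSpecStalk_closedPoint] at h2
  exact h2

/-- If `f.stalkMap x₀` is an isomorphism, `x₀ ⤳ x` and `f x = f x₀`, then `x = x₀`. -/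
theorem eq_of_specializes_of_isIso_stalkMap {X Y : Scheme.{u}} (f : X ⟶ Y) {x₀ x : X}
    [IsIso (f.stalkMap x₀)] (h : x₀ ⤳ x) (he : f x = f x₀) : x = x₀ := by
  apply eq_of_surjective_stalkSpecializes h
  have h1 := f.stalkSpecializes_stalkMap x₀ x h
  have h2 : ∀ (y y' : Y) (e : y = y') (hy : y ⤳ y'), IsIso (Y.presheaf.stalkSpecializes hy) := by
    rintro y _ rfl hy
    rw [TopCat.Presheaf.stalkSpecializes_refl]
    infer_instance
  have h3 : IsIso (Y.presheaf.stalkSpecializes (f.base.hom.map_specializes h)) := h2 _ _ he.symm _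
  have h4 : IsIso (f.stalkMap x ≫ X.presheaf.stalkSpecializes h) := by
    rw [← h1]
    infer_instance
  have h5 : Function.Bijective (f.stalkMap x ≫ X.presheaf.stalkSpecializes h) :=
    ConcreteCategory.bijective_of_isIso _
  intro b
  obtain ⟨a, ha⟩ := h5.2 b
  exact ⟨f.stalkMap x a, ha⟩

/-- Stalk maps of flat preimmersions are isomorphisms. -/
theorem isIso_stalkMap_of_flat_isPreimmersion {X Y : Scheme.{u}} (f : X ⟶ Y) [Flat f]
    [IsPreimmersion f] (x : X) : IsIso (f.stalkMap x) := by
  have h1 := f.stalkMap_surjective x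
  have h2 : (f.stalkMap x).hom.Flat := Flat.stalkMap f x
  have h3 : Function.Injective (f.stalkMap x).hom := by
    algebraize [(f.stalkMap x).hom]
    have : IsLocalHom (algebraMap (Y.presheaf.stalk (f x)) (X.presheaf.stalk x)) :=
      inferInstanceAs (IsLocalHom (f.stalkMap x).hom)
    have : Module.FaithfullyFlat (Y.presheaf.stalk (f x)) (X.presheaf.stalk x) :=
      Module.FaithfullyFlat.of_flat_of_isLocalHom
    exact FaithfulSMul.algebraMap_injective (Y.presheaf.stalk (f x)) (X.presheaf.stalk x)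
  rw [ConcreteCategory.isIso_iff_bijective]
  exact ⟨h3, h1⟩

/-- The fibre over a generic point `y` is a point. -/
theorem eq_of_birational {X Y : Scheme.{u}} (f : X ⟶ Y)
    (hbij : Set.BijOn (fun x : X => f.base x) {x : X | closure {x} ∈ irreducibleComponents ↥X}
      {y : Y | closure {y} ∈ irreducibleComponents ↥Y})
    (hiso : ∀ x : X, closure {x} ∈ irreducibleComponents ↥X → IsIso (f.stalkMap x))
    (y : Y) (hy : closure {y} ∈ irreducibleComponents ↥Y) :
    ∃ x₀ : X, closure {x₀} ∈ irreducibleComponents ↥X ∧ f x₀ = y ∧ ∀ x : X, f x = y → x = x₀ := by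
  obtain ⟨x₀, hx₀, hfx₀⟩ := hbij.2.2 hy
  refine ⟨x₀, hx₀, hfx₀, fun x hx => ?_⟩
  obtain ⟨z, hz⟩ : ∃ z : X, IsGenericPoint z (irreducibleComponent x) :=
    QuasiSober.sober isIrreducible_irreducibleComponent isClosed_irreducibleComponent
  have hzx : z ⤳ x := hz.specializes mem_irreducibleComponent
  have hz' : closure {z} ∈ irreducibleComponents ↥X := by
    rw [hz.def]; exact irreducibleComponent_mem_irreducibleComponents x
  have hfz : f z = y := by
    have h1 : f z ⤳ y := by rw [← hx]; exact hzx.map f.continuous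
    exact closure_mem_irreducibleComponents_iff'.mp hy _ h1
  have hzx₀ : z = x₀ := hbij.2.1 hz' hx₀ (hfz.trans hfx₀.symm)
  have := hiso z hz'
  rw [← hzx₀]
  exact eq_of_specializes_of_isIso_stalkMap f hzx (hx.trans hfz.symm)

/-- If `y` is a generic point of a component of `Y`, `x₀` is the only point over `y` and `f.stalkMap x₀`
is an isomorphism, then the base change of `f` to `Spec O_{Y,y}` is an isomorphism. -/
theorem isIso_pullback_snd_fromSpecStalk {X Y : Scheme.{u}} (f : X ⟶ Y)
    (y : Y) (hy : closure {y} ∈ irreducibleComponents ↥Y) (x₀ : X) (hx₀ : f x₀ = y)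
    (huniq : ∀ x : X, f x = y → x = x₀) (hiso : IsIso (f.stalkMap x₀)) :
    IsIso (pullback.snd f (Y.fromSpecStalk y)) := by
  let g := Y.fromSpecStalk y
  let p₁ := pullback.fst f g
  let p₂ := pullback.snd f g
  have hg : ∀ z, g z = y := by
    intro z
    have h1 : g z ∈ Set.range g := ⟨z, rfl⟩
    rw [Scheme.range_fromSpecStalk] at h1
    exact closure_mem_irreducibleComponents_iff'.mp hy _ h1
  have hp₁ : ∀ z, p₁ z = x₀ := by
    intro z
    apply huniq
    have h1 : (p₁ ≫ f) z = (p₂ ≫ g) z := by rw [pullback.condition]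
    rw [Scheme.Hom.comp_apply, Scheme.Hom.comp_apply] at h1
    rw [h1, hg]
  have hsubP : Subsingleton ↥(pullback f g) :=
    ⟨fun a b => p₁.isEmbedding.injective ((hp₁ a).trans (hp₁ b).symm)⟩
  have hsubS : Subsingleton ↥(Spec (Y.presheaf.stalk y)) :=
    ⟨fun a b => g.isEmbedding.injective ((hg a).trans (hg b).symm)⟩
  obtain ⟨z₀, -, -⟩ := Scheme.Pullback.exists_preimage_pullback (f := f) (g := g) x₀
    (IsLocalRing.closedPoint (Y.presheaf.stalk y)) (hx₀.trans (hg _).symm)
  have hemb : Topology.IsOpenEmbedding p₂ := by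
    refine ⟨⟨⟨?_⟩, Function.injective_of_subsingleton _⟩, ?_⟩
    · exact Subsingleton.elim _ _
    · have : Set.range p₂ = Set.univ :=
        Set.eq_univ_of_forall fun s => ⟨z₀, Subsingleton.elim _ _⟩
      rw [this]
      exact isOpen_univ
  have hst : ∀ z, IsIso (p₂.stalkMap z) := by
    intro z
    have h1 : ∀ x, x = x₀ → IsIso (f.stalkMap x) := by
      rintro _ rfl; exact hiso
    have h2 : IsIso (f.stalkMap (p₁ z)) := h1 _ (hp₁ z)
    have h3 : IsIso (p₁.stalkMap z) := isIso_stalkMap_of_flat_isPreimmersion p₁ z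
    have h4 : IsIso ((p₁ ≫ f).stalkMap z) := by
      rw [Scheme.Hom.stalkMap_comp]
      exact IsIso.comp_isIso' h2 h3
    have h5 : IsIso ((p₂ ≫ g).stalkMap z) := by
      have e : p₁ ≫ f = p₂ ≫ g := pullback.condition
      exact e ▸ h4
    rw [Scheme.Hom.stalkMap_comp] at h5
    have h6 : IsIso (g.stalkMap (p₂ z)) := isIso_stalkMap_of_flat_isPreimmersion g _
    exact @IsIso.of_isIso_comp_left _ _ _ _ _ (g.stalkMap (p₂ z)) (p₂.stalkMap z) h6 h5
  have : IsOpenImmersion p₂ := IsOpenImmersion.of_isIso_stalkMap p₂ hemb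
  have : Surjective p₂ := ⟨fun s => ⟨z₀, Subsingleton.elim _ _⟩⟩
  exact (isIso_iff_isOpenImmersion_and_epi_base p₂).mpr ⟨inferInstance, by
    rw [TopCat.epi_iff_surjective]; exact p₂.surjective⟩

end K384.Birat
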