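import Mathlib.RingTheory.IntegralClosure.IntegrallyClosed
import Mathlib.RingTheory.Localization.Away.Basic
import Mathlib.RingTheory.Localization.Integral
import Mathlib.RingTheory.Polynomial.Basic

/-!
# Integral closure in a product, one factor at a time
-/

set_option autoImplicit false
universe u

namespace K384.NormRing

/-- Integral closure in an integrally closed domain is integrally closed. -/
theorem isIntegrallyClosed_integralClosure (A B : Type*) [CommRing A] [CommRing B] [IsDomain B]
    [Algebra A B] [IsIntegrallyClosed B] : IsIntegrallyClosed (integralClosure A B) := by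
  let R := integralClosure A B
  let L := FractionRing B
  have hinjRB : Function.Injective (algebraMap R B) := Subtype.val_injective
  have : FaithfulSMul R B := (faithfulSMul_iff_algebraMap_injective R B).mpr hinjRB
  have hinjL : Function.Injective (algebraMap R L) := by
    rw [IsScalarTower.algebraMap_eq R B L]
    exact (IsFractionRing.injective B L).comp hinjRB
  have : FaithfulSMul R L := (faithfulSMul_iff_algebraMap_injective R L).mpr hinjL
  let _ : Algebra (FractionRing R) L := FractionRing.liftAlgebra R L
  have : IsScalarTower R (FractionRing R) L := FractionRing.isScalarTower_liftAlgebra R L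
  rw [isIntegrallyClosed_iff (FractionRing R)]
  intro x hx
  have h1 : IsIntegral R (algebraMap (FractionRing R) L x) := hx.map (IsScalarTower.toAlgHom R _ L)
  have h2 : IsIntegral B (algebraMap (FractionRing R) L x) := h1.tower_top
  obtain ⟨b, hb⟩ := (IsIntegrallyClosed.isIntegral_iff).mp h2
  have h3 : IsIntegral R b := by
    rw [← hb] at h1
    exact (isIntegral_algebraMap_iff (IsFractionRing.injective B L)).mp h1
  have h4 : IsIntegral A b := isIntegral_trans b h3
  refine ⟨⟨b, h4⟩, ?_⟩
  apply FaithfulSMul.algebraMap_injective (FractionRing R) L
  rw [← IsScalarTower.algebraMap_apply R (FractionRing R) L, IsScalarTower.algebraMap_apply R B L, ← hb]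
  rfl

variable {A B D : Type*} [CommRing A] [CommRing B] [CommRing D] [Algebra A B] [Algebra A D]

open Polynomial in
/-- Let `ρ : B → D` be a surjection of `A`-algebras which is the projection to the factor cut out by
the idempotent `e`. Elements of `D` integral over `A` lift to elements of `B` integral over `A`. -/
theorem surjective_mapIntegralClosure (ρ : B →ₐ[A] D) (hsurj : Function.Surjective ρ) (e : B)
    (he : e * e = e) (hρe : ρ e = 1) (hker : ∀ b, ρ b = 0 → e * b = 0) :
    Function.Surjective ρ.mapIntegralClosure := by
  rintro ⟨d, P, hP, hPd⟩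
  obtain ⟨b, rfl⟩ := hsurj d
  have h1 : e * aeval b P = 0 := by
    apply hker
    rw [← Polynomial.aeval_algHom_apply]
    exact hPd
  have h2 : e * aeval (e * b) P = 0 := by
    obtain ⟨c, hc⟩ : (e * b) - b ∣ aeval (e * b) P - aeval b P := by
      have := Polynomial.sub_dvd_eval_sub (e * b) b (P.map (algebraMap A B))
      rwa [Polynomial.eval_map_algebraMap, Polynomial.eval_map_algebraMap] at this
    have h3 : e * aeval (e * b) P = e * aeval b P + e * ((e * b - b) * c) := by
      rw [← hc]; ring
    rw [h3, h1, zero_add]
    have h4 : e * ((e * b - b) * c) = (e * e - e) * b * c := by ring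
    rw [h4, he, sub_self, zero_mul, zero_mul]
  have h5 : IsIntegral A (e * b) := by
    refine ⟨X * P, monic_X.mul hP, ?_⟩
    rw [← Polynomial.aeval_def, map_mul, aeval_X]
    have h6 : e * b * aeval (e * b) P = b * (e * aeval (e * b) P) := by ring
    rw [h6, h2, mul_zero]
  refine ⟨⟨e * b, h5⟩, ?_⟩
  apply Subtype.ext
  change ρ (e * b) = ρ b
  rw [map_mul, hρe, one_mul]

theorem isLocalization_away (ρ : B →ₐ[A] D) (hsurj : Function.Surjective ρ)
    (e : integralClosure A B) (he : e * e = e) (hρe : ρ e = 1) (hker : ∀ b, ρ b = 0 → (e : B) * b = 0) :
    let := ρ.mapIntegralClosure.toRingHom.toAlgebra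
    IsLocalization.Away e (integralClosure A D) := by
  let := ρ.mapIntegralClosure.toRingHom.toAlgebra
  refine IsLocalization.away_of_isIdempotentElem_of_mul he ?_ ?_
  · intro x y
    constructor
    · intro h
      have h1 : ρ (x : B) = ρ (y : B) := congrArg Subtype.val h
      apply Subtype.ext
      change (e : B) * x = e * y
      rw [← sub_eq_zero, ← mul_sub]
      apply hker
      rw [map_sub, h1, sub_self]
    · intro h
      apply Subtype.ext
      change ρ (x : B) = ρ (y : B)
      have h1 : ρ ((e : B) * x) = ρ (e * y) := congrArg ρ (congrArg Subtype.val h)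
      rw [map_mul, map_mul, hρe, one_mul, one_mul] at h1
      exact h1
  · exact surjective_mapIntegralClosure ρ hsurj e (congrArg Subtype.val he) hρe hker

/-- Localizations of the integral closure away from the idempotent are normal domains if the factor
is. -/
theorem normal_of_isLocalization_away [IsDomain D] [IsIntegrallyClosed D] (ρ : B →ₐ[A] D)
    (hsurj : Function.Surjective ρ)
    (e : integralClosure A B) (he : e * e = e) (hρe : ρ e = 1) (hker : ∀ b, ρ b = 0 → (e : B) * b = 0)
    {C L : Type*} [CommRing C] [CommRing L] [Algebra C L] (ε : C ≃+* integralClosure A B) (e' : C)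
    (he' : ε e' = e) [IsLocalization.Away e' L] : IsDomain L ∧ IsIntegrallyClosed L := by
  let := ρ.mapIntegralClosure.toRingHom.toAlgebra
  have hloc := isLocalization_away ρ hsurj e he hρe hker
  let alg2 : Algebra C (integralClosure A D) :=
    ((algebraMap (integralClosure A B) (integralClosure A D)).comp ε.toRingHom).toAlgebra
  have h1 : IsLocalization.Away e' (integralClosure A D) := by
    have h2 := IsLocalization.isLocalization_of_base_ringEquiv (Submonoid.powers e)
      (integralClosure A D) ε.symm
    have h3 : (Submonoid.powers e).map ε.symm = Submonoid.powers e' := by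
      rw [Submonoid.map_powers]
      congr 1
      change ε.symm e = e'
      rw [← he', ε.symm_apply_apply]
    rw [h3] at h2
    exact h2
  let η : L ≃ₐ[C] integralClosure A D := IsLocalization.algEquiv (Submonoid.powers e') _ _
  have h4 := isIntegrallyClosed_integralClosure A D
  exact ⟨η.toRingEquiv.toMulEquiv.isDomain _, IsIntegrallyClosed.of_equiv η.symm.toRingEquiv⟩

end K384.NormRing
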