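import Groth.Prelude.Def_SchLoc
import Groth.Agent.Etbase.SpreadOut
import Groth.Agent.Ega43.FPOfComp
import Mathlib.AlgebraicGeometry.SpreadingOut

/-!
# Morphisms inducing an isomorphism on a local ring are local isomorphisms

* `spread_out_unique`: two morphisms over `S` into an `S`-scheme locally of finite type which agree on
  `Spec O_{X,x}` agree near `x`.
* `isLocalIsoAt_of_lfp`, `isLocalIsoAt_of_isGermInjectiveAt`: if `f.stalkMap x` is an isomorphism, then
  `f` is a local isomorphism at `x`.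
* `exists_openImmersion_of_lfp`, ...: `S`-isomorphic local rings have `S`-isomorphic neighbourhoods.
-/

set_option autoImplicit false
universe u

open CategoryTheory CategoryTheory.Limits AlgebraicGeometry

namespace K384.LocalIso

/-- Two morphisms over `S` into an `S`-scheme locally of finite type which agree on
`Spec O_{X,x}` agree near `x`. -/
theorem spread_out_unique {X Y S : Scheme.{u}} (p : Y ⟶ S) [LocallyOfFiniteType p] (f g : X ⟶ Y)
    (hfg : f ≫ p = g ≫ p) (x : X) (h : X.fromSpecStalk x ≫ f = X.fromSpecStalk x ≫ g) :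
    ∃ U : X.Opens, x ∈ U ∧ U.ι ≫ f = U.ι ≫ g := by
  let F : X ⟶ pullback p p := pullback.lift f g hfg
  have hF1 : F ≫ pullback.fst p p = f := pullback.lift_fst _ _ _
  have hF2 : F ≫ pullback.snd p p = g := pullback.lift_snd _ _ _
  have hD : LocallyOfFinitePresentation (pullback.diagonal p) := by
    have : LocallyOfFinitePresentation (pullback.diagonal p ≫ pullback.fst p p) := by
      rw [pullback.diagonal_fst]
      infer_instance
    exact Groth.Agent.Ega43.FPOfComp.locallyOfFinitePresentation_of_comp _ (pullback.fst p p)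
  have e1 : X.fromSpecStalk x ≫ F = (X.fromSpecStalk x ≫ f) ≫ pullback.diagonal p := by
    apply pullback.hom_ext
    · rw [Category.assoc, Category.assoc, hF1, pullback.diagonal_fst, Category.comp_id]
    · rw [Category.assoc, Category.assoc, hF2, pullback.diagonal_snd, Category.comp_id, h]
  obtain ⟨U, hxU, τ, -, hτ⟩ := Groth.Agent.Etbase.SpreadOut.spread_out_section
    (f := pullback.fst F (pullback.diagonal p)) (s := x)
    (pullback.lift (X.fromSpecStalk x) (X.fromSpecStalk x ≫ f) e1) (pullback.lift_fst _ _ _)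
  refine ⟨U, hxU, ?_⟩
  have h1 : U.ι ≫ F = (τ ≫ pullback.snd _ _) ≫ pullback.diagonal p := by
    rw [← hτ, Category.assoc, Category.assoc, pullback.condition]
  have h2 := congrArg (· ≫ pullback.fst p p) h1
  have h3 := congrArg (· ≫ pullback.snd p p) h1
  simp only [Category.assoc, hF1, hF2, pullback.diagonal_fst, pullback.diagonal_snd,
    Category.comp_id] at h2 h3
  rw [h2, h3]

/-- If `r ≫ g` is an open immersion and `g` is a monomorphism, then `r` is an open immersion. -/
theorem isOpenImmersion_of_comp_mono {W U X : Scheme.{u}} (r : W ⟶ U) (g : U ⟶ X) [Mono g]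
    [IsOpenImmersion (r ≫ g)] : IsOpenImmersion r := by
  let s : W ⟶ pullback g (r ≫ g) := pullback.lift r (𝟙 W) (by simp)
  have h1 : s ≫ pullback.snd g (r ≫ g) = 𝟙 W := pullback.lift_snd _ _ _
  have h2 : s ≫ pullback.fst g (r ≫ g) = r := pullback.lift_fst _ _ _
  have h3 : pullback.snd g (r ≫ g) ≫ s = 𝟙 _ := by
    apply pullback.hom_ext
    · rw [Category.assoc, h2, ← cancel_mono g, Category.assoc, Category.id_comp,
        pullback.condition]
    · rw [Category.assoc, h1, Category.comp_id, Category.id_comp]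
  have : IsIso s := ⟨_, h1, h3⟩
  rw [← h2]
  infer_instance

theorem isLocalIsoAt_of_section {X Y : Scheme.{u}} (f : X ⟶ Y) [LocallyOfFiniteType f] (x : X)
    [IsIso (f.stalkMap x)] (U : Y.Opens) (hxU : f x ∈ U) (g : U.toScheme ⟶ X)
    (hg1 : Spec.map (inv (f.stalkMap x)) ≫ X.fromSpecStalk x = U.fromSpecStalkOfMem (f x) hxU ≫ g)
    (hg2 : g ≫ f = U.ι) : SchLoc.IsLocalIsoAt f x := by
  have hgm : Mono g := by
    have : Mono (g ≫ f) := by rw [hg2]; infer_instance
    exact mono_of_mono g f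
  have hxV : x ∈ f ⁻¹ᵁ U := hxU
  have key : (f ⁻¹ᵁ U).fromSpecStalkOfMem x hxV ≫ (f ∣_ U ≫ g) =
      (f ⁻¹ᵁ U).fromSpecStalkOfMem x hxV ≫ (f ⁻¹ᵁ U).ι := by
    have h1 : (f ⁻¹ᵁ U).fromSpecStalkOfMem x hxV ≫ f ∣_ U =
        Spec.map (f.stalkMap x) ≫ U.fromSpecStalkOfMem (f x) hxU := by
      rw [← cancel_mono U.ι, Category.assoc, morphismRestrict_ι, ← Category.assoc,
        Scheme.Opens.fromSpecStalkOfMem_ι, Category.assoc, Scheme.Opens.fromSpecStalkOfMem_ι,
        Scheme.SpecMap_stalkMap_fromSpecStalk]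
    rw [← Category.assoc, h1, Category.assoc, ← hg1, ← Category.assoc, ← Spec.map_comp,
      IsIso.inv_hom_id, Spec.map_id, Category.id_comp, Scheme.Opens.fromSpecStalkOfMem_ι]
  let x' : (f ⁻¹ᵁ U : X.Opens).toScheme := ⟨x, hxV⟩
  have key' : (f ⁻¹ᵁ U).toScheme.fromSpecStalk x' ≫ (f ∣_ U ≫ g) =
      (f ⁻¹ᵁ U).toScheme.fromSpecStalk x' ≫ (f ⁻¹ᵁ U).ι := by
    rw [← cancel_epi (Spec.map (inv ((f ⁻¹ᵁ U).ι.stalkMap x')))]
    simp only [Scheme.Opens.fromSpecStalkOfMem, Category.assoc] at key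
    exact key
  obtain ⟨W, hxW, hW⟩ := spread_out_unique f (f ∣_ U ≫ g) (f ⁻¹ᵁ U).ι (by
    rw [Category.assoc, hg2, morphismRestrict_ι]) x' key'
  have h4 : IsOpenImmersion ((W.ι ≫ f ∣_ U) ≫ g) := by
    rw [Category.assoc, hW]; infer_instance
  have h5 : IsOpenImmersion (W.ι ≫ f ∣_ U) := isOpenImmersion_of_comp_mono _ g
  refine ⟨(W.ι ≫ (f ⁻¹ᵁ U).ι).opensRange, ⟨⟨x', hxW⟩, rfl⟩, ?_⟩
  have h6 : (W.ι ≫ (f ⁻¹ᵁ U).ι).opensRange.ι ≫ f =
      (W.ι ≫ (f ⁻¹ᵁ U).ι).isoOpensRange.inv ≫ (W.ι ≫ f ∣_ U) ≫ U.ι := by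
    rw [Category.assoc, morphismRestrict_ι, Iso.eq_inv_comp, ← Category.assoc,
      Scheme.Hom.isoOpensRange_hom_ι, Category.assoc]
  rw [h6]
  infer_instance

/-- If `f` is locally of finite presentation and `O_{Y,f x} → O_{X,x}` is an isomorphism, then `f` is a
local isomorphism at `x`. -/
theorem isLocalIsoAt_of_lfp {X Y : Scheme.{u}} (f : X ⟶ Y) [LocallyOfFinitePresentation f] (x : X)
    [IsIso (f.stalkMap x)] : SchLoc.IsLocalIsoAt f x := by
  obtain ⟨U, hxU, g, hg1, hg2⟩ := Groth.Agent.Etbase.SpreadOut.spread_out (X := Y) (Y := X) (S := Y)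
    (sX := 𝟙 Y) (sY := f) (x := f x) (y := x) rfl (inv (f.stalkMap x)) (by simp)
  exact isLocalIsoAt_of_section f x U hxU g hg1 (by simpa using hg2)

/-- If `f` is locally of finite type, `Y` is germ-injective at `f x` and `O_{Y,f x} → O_{X,x}` is an
isomorphism, then `f` is a local isomorphism at `x`. -/
theorem isLocalIsoAt_of_isGermInjectiveAt {X Y : Scheme.{u}} (f : X ⟶ Y) [LocallyOfFiniteType f]
    (x : X) [Y.IsGermInjectiveAt (f x)] [IsIso (f.stalkMap x)] : SchLoc.IsLocalIsoAt f x := by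
  obtain ⟨U, hxU, g, hg1, hg2⟩ := spread_out_of_isGermInjective (X := Y) (Y := X) (S := Y) (𝟙 Y) f
    (x := f x) (y := x) rfl (inv (f.stalkMap x)) (by simp)
  exact isLocalIsoAt_of_section f x U hxU g hg1 (by simpa using hg2)

end K384.LocalIso
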