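import Groth.Agent.Mor.K384.Birat
import Groth.Agent.Mor.K384.LocalIso
import Groth.Agent.Grpsch.ClosureImage
import Mathlib.AlgebraicGeometry.Morphisms.IsIso
import Mathlib.AlgebraicGeometry.Morphisms.Separated

/-!
# Birational morphisms are isomorphisms over dense opens

* `isOpenImmersion_of_injective`: injective local isomorphisms are open immersions.
* `dense_of_generic`: a set containing all generic points of irreducible components is dense.
* `exists_opens_of_isLocalIsoAt`, `exists_dense_isIso_restrict`.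
-/

set_option autoImplicit false
universe u

open CategoryTheory CategoryTheory.Limits AlgebraicGeometry

namespace K384.BiratOpen

open Groth.Agent.Ega1.GenPts

/-- If `f` is a local isomorphism at `x` then the stalk map is an isomorphism. -/
theorem isIso_stalkMap_of_isLocalIsoAt {X Y : Scheme.{u}} (f : X ⟶ Y) {x : X}
    (h : SchLoc.IsLocalIsoAt f x) : IsIso (f.stalkMap x) := by
  obtain ⟨U, hxU, hU⟩ := h
  let x' : U.toScheme := ⟨x, hxU⟩
  have h1 : IsIso ((U.ι ≫ f).stalkMap x') := inferInstance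
  rw [Scheme.Hom.stalkMap_comp] at h1
  exact @IsIso.of_isIso_comp_right _ _ _ _ _ (f.stalkMap (U.ι x')) (U.ι.stalkMap x') inferInstance h1

/-- Injective local isomorphisms are open immersions. -/
theorem isOpenImmersion_of_injective {X Y : Scheme.{u}} (f : X ⟶ Y)
    (h : ∀ x, SchLoc.IsLocalIsoAt f x) (hinj : Function.Injective f) : IsOpenImmersion f := by
  have hop : IsOpenMap f := by
    intro A hA
    rw [isOpen_iff_forall_mem_open]
    rintro _ ⟨x, hx, rfl⟩
    obtain ⟨U, hxU, hU⟩ := h x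
    refine ⟨(U.ι ≫ f) '' (U.ι ⁻¹' A), ?_, ?_, ⟨⟨x, hxU⟩, hx, rfl⟩⟩
    · rintro _ ⟨z, hz, rfl⟩
      exact ⟨U.ι z, hz, rfl⟩
    · exact (U.ι ≫ f).isOpenEmbedding.isOpenMap _ (hA.preimage U.ι.continuous)
  have : ∀ x, IsIso (f.stalkMap x) := fun x => isIso_stalkMap_of_isLocalIsoAt f (h x)
  exact IsOpenImmersion.of_isIso_stalkMap f
    (.of_continuous_injective_isOpenMap f.continuous hinj hop)

/-- A set containing the generic points of the irreducible components is dense. -/
theorem dense_of_generic {X : Type*} [TopologicalSpace X] [QuasiSober X] (U : Set X)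
    (h : ∀ x : X, closure {x} ∈ irreducibleComponents X → x ∈ U) : Dense U := by
  intro x
  obtain ⟨z, hz⟩ : ∃ z : X, IsGenericPoint z (irreducibleComponent x) :=
    QuasiSober.sober isIrreducible_irreducibleComponent isClosed_irreducibleComponent
  have hz' : closure {z} ∈ irreducibleComponents X := by
    rw [hz.def]; exact irreducibleComponent_mem_irreducibleComponents x
  have h1 : x ∈ closure {z} := by rw [hz.def]; exact mem_irreducibleComponent
  exact closure_mono (Set.singleton_subset_iff.mpr (h z hz')) h1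

/-- A dense open contains the generic points of the irreducible components, if there are finitely many
of them. -/
theorem mem_of_dense {X : Type*} [TopologicalSpace X] (hfin : (irreducibleComponents X).Finite)
    (U : Set X) (hUo : IsOpen U) (hU : Dense U) (x : X) (hx : closure {x} ∈ irreducibleComponents X) :
    x ∈ U := by
  obtain ⟨V, hxV, hVo, hV⟩ : ∃ V : Set X, x ∈ V ∧ IsOpen V ∧ V ⊆ closure {x} := by
    refine ⟨(⋃ Z ∈ {Z ∈ irreducibleComponents X | x ∉ Z}, Z)ᶜ, ?_, ?_, ?_⟩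
    · simp
    · rw [isOpen_compl_iff]
      refine Set.Finite.isClosed_biUnion (hfin.subset fun Z hZ => hZ.1) fun Z hZ => ?_
      exact isClosed_of_mem_irreducibleComponents Z hZ.1
    · intro y hy
      have h1 : x ∈ irreducibleComponent y := by
        by_contra h
        exact hy (Set.mem_biUnion (x := irreducibleComponent y)
          ⟨irreducibleComponent_mem_irreducibleComponents y, h⟩ mem_irreducibleComponent)
      have h2 : closure {x} ⊆ irreducibleComponent y :=
        closure_minimal (Set.singleton_subset_iff.mpr h1) isClosed_irreducibleComponent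
      exact hx.2 isIrreducible_irreducibleComponent h2 mem_irreducibleComponent
  obtain ⟨z, hzV, hzU⟩ := hU.inter_open_nonempty V hVo ⟨x, hxV⟩
  exact (specializes_iff_mem_closure.mpr (hV hzV)).mem_open hUo hzU

/-- If `f` induces a bijection on generic points and is a local isomorphism at the generic points, it
restricts to an isomorphism of dense opens. -/
theorem exists_opens {X Y : Scheme.{u}} (f : X ⟶ Y) (hYfin : (irreducibleComponents ↥Y).Finite)
    (hbij : Set.BijOn (fun x : X => f.base x) {x : X | closure {x} ∈ irreducibleComponents ↥X}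
      {y : Y | closure {y} ∈ irreducibleComponents ↥Y})
    (hloc : ∀ x : X, closure {x} ∈ irreducibleComponents ↥X → SchLoc.IsLocalIsoAt f x) :
    ∃ U : X.Opens, (∀ x : X, closure {x} ∈ irreducibleComponents ↥X → x ∈ U) ∧
      IsOpenImmersion (U.ι ≫ f) := by
  let G := {x : X // closure {x} ∈ irreducibleComponents ↥X}
  choose W hxW hW using fun x : G => hloc x.1 x.2
  -- the complement of the components not passing through `f x`
  let N (x : G) : Set Y := (⋃ Z ∈ {Z ∈ irreducibleComponents ↥Y | f x.1 ∉ Z}, Z)ᶜ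
  have hNo : ∀ x, IsOpen (N x) := by
    intro x
    rw [isOpen_compl_iff]
    refine Set.Finite.isClosed_biUnion (hYfin.subset fun Z hZ => hZ.1) fun Z hZ => ?_
    exact isClosed_of_mem_irreducibleComponents Z hZ.1
  have hxN : ∀ x : G, f x.1 ∈ N x := fun x => by simp [N]
  have hNN : ∀ x x' : G, ∀ y, y ∈ N x → y ∈ N x' → x = x' := by
    intro x x' y hy hy'
    have key : ∀ x : G, y ∈ N x → irreducibleComponent y = closure {f x.1} := by
      intro x hy
      have h1 : f x.1 ∈ irreducibleComponent y := by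
        by_contra h
        exact hy (Set.mem_biUnion (x := irreducibleComponent y)
          ⟨irreducibleComponent_mem_irreducibleComponents y, h⟩ mem_irreducibleComponent)
      have h2 : closure {f x.1} ⊆ irreducibleComponent y :=
        closure_minimal (Set.singleton_subset_iff.mpr h1) isClosed_irreducibleComponent
      exact subset_antisymm ((hbij.1 x.2).2 isIrreducible_irreducibleComponent h2) h2
    have e : closure {f x.1} = closure {f x'.1} := (key x hy).symm.trans (key x' hy')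
    have e' : f x.1 = f x'.1 := IsGenericPoint.eq (S := closure {f x.1}) rfl e.symm
    exact Subtype.ext (hbij.2.1 x.2 x'.2 e')
  let U : X.Opens := ⟨⋃ x : G, (W x : Set X) ∩ f ⁻¹' (N x),
    isOpen_iUnion fun x => (W x).isOpen.inter ((hNo x).preimage f.continuous)⟩
  refine ⟨U, fun x hx => Set.mem_iUnion.mpr ⟨⟨x, hx⟩, hxW ⟨x, hx⟩, hxN ⟨x, hx⟩⟩, ?_⟩
  apply isOpenImmersion_of_injective
  · rintro ⟨x, hx⟩
    obtain ⟨x₀, hx1, hx2⟩ := Set.mem_iUnion.mp hx
    refine ⟨U.ι ⁻¹ᵁ W x₀, hx1, ?_⟩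
    have h1 : (U.ι ⁻¹ᵁ W x₀).ι ≫ U.ι ≫ f = (U.ι.resLE (W x₀) (U.ι ⁻¹ᵁ W x₀) le_rfl) ≫ (W x₀).ι ≫ f := by
      rw [Scheme.Hom.resLE_comp_ι_assoc]
    rw [h1]
    have h2 : IsOpenImmersion (U.ι.resLE (W x₀) (U.ι ⁻¹ᵁ W x₀) le_rfl) := by
      have : IsOpenImmersion (U.ι.resLE (W x₀) (U.ι ⁻¹ᵁ W x₀) le_rfl ≫ (W x₀).ι) := by
        rw [Scheme.Hom.resLE_comp_ι]; infer_instance
      exact K384.LocalIso.isOpenImmersion_of_comp_mono _ (W x₀).ι
    have := hW x₀
    infer_instance
  · rintro ⟨a, ha⟩ ⟨b, hb⟩ hab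
    have hab' : f a = f b := hab
    obtain ⟨x, hx1, hx2⟩ := Set.mem_iUnion.mp ha
    obtain ⟨x', hx1', hx2'⟩ := Set.mem_iUnion.mp hb
    have e : x = x' := hNN x x' (f a) hx2 (by rw [hab']; exact hx2')
    subst e
    have h3 : ((W x).ι ≫ f) ⟨a, hx1⟩ = ((W x).ι ≫ f) ⟨b, hx1'⟩ := hab
    have := hW x
    have h4 := ((W x).ι ≫ f).isOpenEmbedding.injective h3
    exact Subtype.ext (congrArg (fun z => (W x).ι z) h4)

/-- From an open immersion `U → Y` to an isomorphism onto the image. -/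
theorem isIso_resLE {X Y : Scheme.{u}} (f : X ⟶ Y) (U : X.Opens) [IsOpenImmersion (U.ι ≫ f)] :
    ∃ (V : Y.Opens) (hUV : U ≤ f ⁻¹ᵁ V), (V : Set Y) = f '' U ∧ IsIso (f.resLE V U hUV) := by
  have hUV : U ≤ f ⁻¹ᵁ (U.ι ≫ f).opensRange := fun x hx => ⟨⟨x, hx⟩, rfl⟩
  refine ⟨(U.ι ≫ f).opensRange, hUV, ?_, ?_⟩
  · ext y
    constructor
    · rintro ⟨⟨x, hx⟩, rfl⟩
      exact ⟨x, hx, rfl⟩
    · rintro ⟨x, hx, rfl⟩
      exact ⟨⟨x, hx⟩, rfl⟩
  · have e : f.resLE (U.ι ≫ f).opensRange U hUV ≫ (U.ι ≫ f).opensRange.ι = U.ι ≫ f :=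
      Scheme.Hom.resLE_comp_ι _ _
    have h1 : IsOpenImmersion (f.resLE (U.ι ≫ f).opensRange U hUV) := by
      have : IsOpenImmersion (f.resLE (U.ι ≫ f).opensRange U hUV ≫ (U.ι ≫ f).opensRange.ι) := by
        rw [e]; infer_instance
      exact K384.LocalIso.isOpenImmersion_of_comp_mono _ (U.ι ≫ f).opensRange.ι
    rw [isIso_iff_isOpenImmersion_and_surjective]
    refine ⟨h1, ⟨?_⟩⟩
    rintro ⟨_, ⟨x, rfl⟩⟩
    refine ⟨x, ?_⟩
    apply (U.ι ≫ f).opensRange.ι.isOpenEmbedding.injective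
    rw [← Scheme.Hom.comp_apply, e]
    rfl

theorem isIso_morphismRestrict {X Y : Scheme.{u}} (f : X ⟶ Y) (U : X.Opens)
    [IsOpenImmersion (U.ι ≫ f)] (V : Y.Opens) (hV : (V : Set Y) ⊆ f '' U) (hVU : f ⁻¹ᵁ V ≤ U) :
    IsIso (f ∣_ V) := by
  have e : f ∣_ V ≫ V.ι = X.homOfLE hVU ≫ U.ι ≫ f := by
    rw [morphismRestrict_ι, Scheme.homOfLE_ι_assoc]
  have h1 : IsOpenImmersion (f ∣_ V) := by
    have : IsOpenImmersion (f ∣_ V ≫ V.ι) := by
      rw [e]; infer_instance
    exact K384.LocalIso.isOpenImmersion_of_comp_mono _ V.ι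
  rw [isIso_iff_isOpenImmersion_and_surjective]
  refine ⟨h1, ⟨?_⟩⟩
  rintro ⟨y, hy⟩
  obtain ⟨x, hx, rfl⟩ := hV hy
  refine ⟨⟨x, hy⟩, ?_⟩
  apply V.ι.isOpenEmbedding.injective
  exact congr($(morphismRestrict_ι f V) ⟨x, hy⟩)

theorem exists_dense_isIso_restrict {X Y : Scheme.{u}} (f : X ⟶ Y)
    (hfib : ∀ y : Y, closure {y} ∈ irreducibleComponents ↥Y → ∃ x₀ : X,
      closure {x₀} ∈ irreducibleComponents ↥X ∧ f x₀ = y ∧ ∀ x : X, f x = y → x = x₀)
    (U : X.Opens) (hU : ∀ x : X, closure {x} ∈ irreducibleComponents ↥X → x ∈ U)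
    [IsOpenImmersion (U.ι ≫ f)] (hf₁ : QuasiCompact f ∨ IsSeparated f) :
    ∃ V : Y.Opens, Dense (V : Set ↥Y) ∧ IsIso (f ∣_ V) := by
  have hr : ((U.ι ≫ f).opensRange : Set Y) = f '' U := by
    ext y
    constructor
    · rintro ⟨⟨x, hx⟩, rfl⟩
      exact ⟨x, hx, rfl⟩
    · rintro ⟨x, hx, rfl⟩
      exact ⟨⟨x, hx⟩, rfl⟩
  rcases hf₁ with hf | hf
  · let V : Y.Opens := (U.ι ≫ f).opensRange ⊓ ⟨(closure (f '' (U : Set X)ᶜ))ᶜ, isClosed_closure.isOpen_compl⟩
    refine ⟨V, ?_, ?_⟩
    · apply dense_of_generic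
      intro y hy
      obtain ⟨x₀, hx₀, hfx₀, huniq⟩ := hfib y hy
      refine ⟨?_, ?_⟩
      · rw [hr]; exact ⟨x₀, hU x₀ hx₀, hfx₀⟩
      · intro hcl
        obtain ⟨z, hz, hzy⟩ := Groth.Agent.Grpsch.ClosureImage.exists_specializes_of_mem_closure_image
          f U.isOpen.isClosed_compl hcl
        have h1 : f z = y := closure_mem_irreducibleComponents_iff'.mp hy _ hzy
        exact hz (by rw [huniq z h1]; exact hU x₀ hx₀)
    · apply isIso_morphismRestrict f U V
      · intro y hy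
        rw [← hr]; exact hy.1
      · intro x hx
        by_contra h
        exact hx.2 (subset_closure ⟨x, h, rfl⟩)
  · refine ⟨(U.ι ≫ f).opensRange, ?_, ?_⟩
    · apply dense_of_generic
      intro y hy
      obtain ⟨x₀, hx₀, hfx₀, huniq⟩ := hfib y hy
      rw [hr]; exact ⟨x₀, hU x₀ hx₀, hfx₀⟩
    · apply isIso_morphismRestrict f U _ hr.le
      have hUV : U ≤ f ⁻¹ᵁ (U.ι ≫ f).opensRange := fun x hx => ⟨⟨x, hx⟩, rfl⟩
      have e : X.homOfLE hUV ≫ f ∣_ (U.ι ≫ f).opensRange = (U.ι ≫ f).isoOpensRange.hom := by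
        rw [← cancel_mono (U.ι ≫ f).opensRange.ι, Category.assoc, morphismRestrict_ι,
          Scheme.homOfLE_ι_assoc, Scheme.Hom.isoOpensRange_hom_ι]
      have hcl : IsClosedImmersion (X.homOfLE hUV) := by
        have : IsClosedImmersion (X.homOfLE hUV ≫ f ∣_ (U.ι ≫ f).opensRange) := by
          rw [e]; infer_instance
        exact IsClosedImmersion.of_comp _ (f ∣_ (U.ι ≫ f).opensRange)
      intro x hx
      obtain ⟨z, hz⟩ : ∃ z : X, IsGenericPoint z (irreducibleComponent x) :=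
        QuasiSober.sober isIrreducible_irreducibleComponent isClosed_irreducibleComponent
      have hzx : z ⤳ x := hz.specializes mem_irreducibleComponent
      have hz' : closure {z} ∈ irreducibleComponents X := by
        rw [hz.def]; exact irreducibleComponent_mem_irreducibleComponents x
      have hzU : z ∈ U := hU z hz'
      let x' : ↥(f ⁻¹ᵁ (U.ι ≫ f).opensRange) := ⟨x, hx⟩
      let z' : ↥(f ⁻¹ᵁ (U.ι ≫ f).opensRange) := ⟨z, hUV hzU⟩
      have hsp : z' ⤳ x' := by
        rw [subtype_specializes_iff]; exact hzx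
      have hmem : x' ∈ Set.range (X.homOfLE hUV) :=
        hsp.mem_closed (X.homOfLE hUV).isClosedEmbedding.isClosed_range ⟨⟨z, hzU⟩, by
          apply (f ⁻¹ᵁ (U.ι ≫ f).opensRange).ι.isOpenEmbedding.injective
          exact congr($(Scheme.homOfLE_ι X hUV) ⟨z, hzU⟩)⟩
      obtain ⟨w, hw⟩ := hmem
      have : w.1 = x := by
        have h1 : (f ⁻¹ᵁ (U.ι ≫ f).opensRange).ι (X.homOfLE hUV w) = w.1 :=
          congr($(Scheme.homOfLE_ι X hUV) w)
        rw [← h1, hw]
        rfl
      rw [← this]; exact w.2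

end K384.BiratOpen
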