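import Groth.Agent.S0549
import Mathlib.LinearAlgebra.Matrix.Charpoly.LinearMap
import Mathlib.RingTheory.KrullDimension.Basic
import Mathlib.RingTheory.Localization.Integral

/-!
# One-dimensional Noetherian local rings integrally closed in a ring in which some element of the
maximal ideal becomes invertible are discrete valuation rings
-/

set_option autoImplicit false
universe u v

open IsLocalRing

namespace K384.DvrCl

/-- An element mapping a finitely generated ideal containing a unit of `T` into itself is integral. -/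
theorem isIntegral_of_mul_mem {R T : Type*} [CommRing R] [CommRing T] [Algebra R T]
    (N : Submodule R T) (hN : N.FG) (n₀ : T) (hn₀ : n₀ ∈ N) (hu : IsUnit n₀) (z : T)
    (hz : ∀ n ∈ N, z * n ∈ N) : IsIntegral R z := by
  have : Module.Finite R N := Module.Finite.iff_fg.mpr hN
  let L : Module.End R N := (Algebra.lmul R T z).restrict hz
  obtain ⟨p, hp, hpL⟩ := LinearMap.exists_monic_and_aeval_eq_zero R L
  have key : ∀ (q : Polynomial R) (n : N), ((Polynomial.aeval L q) n : T) = Polynomial.aeval z q * n := by
    intro q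
    induction q using Polynomial.induction_on' with
    | add p q hp hq =>
      intro n
      rw [map_add, map_add, add_mul, ← hp n, ← hq n]
      rfl
    | monomial k a =>
      intro n
      rw [Polynomial.aeval_monomial, Polynomial.aeval_monomial]
      have hk : ∀ (k : ℕ) (n : N), (((L ^ k) n : N) : T) = z ^ k * n := by
        intro k
        induction k with
        | zero => intro n; simp
        | succ k ih =>
          intro n
          rw [pow_succ, Module.End.mul_apply, ih, pow_succ, mul_assoc]
          rfl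
      have h1 : ((algebraMap R (Module.End R N) a * L ^ k) n : T) = a • (((L ^ k) n : N) : T) := rfl
      rw [h1, hk, Algebra.smul_def, mul_assoc]
  refine ⟨p, hp, ?_⟩
  have h1 := key p ⟨n₀, hn₀⟩
  rw [hpL] at h1
  have h2 : Polynomial.aeval z p * n₀ = 0 := h1.symm
  rw [← Polynomial.aeval_def]
  exact (hu.mul_left_eq_zero).mp h2

theorem dvr_of_unit (R : Type u) (T : Type v) [CommRing R] [IsLocalRing R] [IsNoetherianRing R]
    [CommRing T] [Algebra R T] (hinj : Function.Injective (algebraMap R T))
    (hcl : ∀ t : T, IsIntegral R t → t ∈ (algebraMap R T).range)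
    (hdim : ringKrullDim R = 1) (f : R) (hf : f ∈ maximalIdeal R)
    (hu : IsUnit (algebraMap R T f)) :
    ∃ _ : IsDomain R, IsDiscreteValuationRing R := by
  rw [Groth.Agent.S0549.dvr_iff]
  refine ⟨?_, hdim⟩
  have hnzd : f ∈ nonZeroDivisors R := by
    rw [mem_nonZeroDivisors_iff_right]
    intro x hx
    apply hinj
    rw [map_zero]
    have h1 : algebraMap R T x * algebraMap R T f = 0 := by rw [← map_mul, hx, map_zero]
    exact (hu.mul_left_eq_zero).mp h1
  have hprime : ∀ Q : Ideal R, Q.IsPrime → f ∈ Q → Q = maximalIdeal R := by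
    intro Q hQ hfQ
    have h1 : Ring.KrullDimLE 1 R := Ring.krullDimLE_iff.mpr (by rw [hdim]; rfl)
    rcases Ring.krullDimLE_one_iff.mp h1 Q hQ with h | h
    · exact absurd hnzd (Set.disjoint_left.mp
        (Ideal.disjoint_nonZeroDivisors_of_mem_minimalPrimes h) hfQ)
    · exact IsLocalRing.eq_maximalIdeal h
  have hrad : maximalIdeal R ≤ (Ideal.span {f}).radical := by
    rw [Ideal.radical_eq_sInf]
    refine le_sInf ?_
    rintro Q ⟨hle, hQ⟩
    exact (hprime Q hQ (hle (Ideal.subset_span rfl))).ge
  have hex := Ideal.exists_pow_le_of_le_radical_of_fg hrad (IsNoetherian.noetherian _)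
  classical
  let n := Nat.find hex
  have hn : maximalIdeal R ^ n ≤ Ideal.span {f} := Nat.find_spec hex
  have hn0 : n ≠ 0 := by
    intro h0
    rw [h0, pow_zero, Ideal.one_eq_top, top_le_iff, Ideal.span_singleton_eq_top] at hn
    exact (IsLocalRing.mem_maximalIdeal f).mp hf hn
  obtain ⟨k, hk⟩ := Nat.exists_eq_succ_of_ne_zero hn0
  have hnot : ¬ maximalIdeal R ^ k ≤ Ideal.span {f} := Nat.find_min hex (by omega)
  obtain ⟨a, ha, haf⟩ := SetLike.not_le_iff_exists.mp hnot
  obtain ⟨g, hg⟩ := hu.exists_right_inv
  let z : T := algebraMap R T a * g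
  have hz1 : ∀ w ∈ maximalIdeal R, ∃ r : R, z * algebraMap R T w = algebraMap R T r := by
    intro w hw
    have h1 : a * w ∈ maximalIdeal R ^ n := by
      rw [hk, pow_succ]; exact Ideal.mul_mem_mul ha hw
    obtain ⟨r, hr⟩ := Ideal.mem_span_singleton.mp (hn h1)
    refine ⟨r, ?_⟩
    calc z * algebraMap R T w = algebraMap R T (a * w) * g := by rw [map_mul]; ring
      _ = algebraMap R T r * (algebraMap R T f * g) := by rw [hr, map_mul]; ring
      _ = algebraMap R T r := by rw [hg, mul_one]
  have hznot : z ∉ (algebraMap R T).range := by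
    rintro ⟨r, hr⟩
    apply haf
    rw [Ideal.mem_span_singleton]
    refine ⟨r, hinj ?_⟩
    rw [map_mul, hr]
    change algebraMap R T a = algebraMap R T f * (algebraMap R T a * g)
    calc algebraMap R T a = algebraMap R T a * (algebraMap R T f * g) := by rw [hg, mul_one]
      _ = _ := by ring
  obtain ⟨w, hw, r, hr, hzw⟩ : ∃ w ∈ maximalIdeal R, ∃ r : R, IsUnit r ∧
      z * algebraMap R T w = algebraMap R T r := by
    by_contra hcon
    push Not at hcon
    apply hznot
    apply hcl
    refine isIntegral_of_mul_mem (Submodule.map (Algebra.linearMap R T) (maximalIdeal R))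
      (Submodule.FG.map _ (IsNoetherian.noetherian _)) (algebraMap R T f) ⟨f, hf, rfl⟩ hu z ?_
    rintro _ ⟨w, hw, rfl⟩
    obtain ⟨r, hr⟩ := hz1 w hw
    refine ⟨r, ?_, hr.symm⟩
    by_contra hr'
    have hru : IsUnit r := by
      by_contra h
      exact hr' ((IsLocalRing.mem_maximalIdeal r).mpr h)
    exact hcon w hw r hru hr
  obtain ⟨r', hr'⟩ := hr.exists_right_inv
  let y := w * r'
  have hzy : z * algebraMap R T y = 1 := by
    change z * algebraMap R T (w * r') = 1
    rw [map_mul, ← mul_assoc, hzw, ← map_mul, hr', map_one]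
  have hm : maximalIdeal R = Ideal.span {y} := by
    apply le_antisymm
    · intro x hx
      obtain ⟨r'', hr''⟩ := hz1 x hx
      rw [Ideal.mem_span_singleton]
      refine ⟨r'', hinj ?_⟩
      rw [map_mul, ← hr'']
      calc algebraMap R T x = (z * algebraMap R T y) * algebraMap R T x := by rw [hzy, one_mul]
        _ = _ := by ring
    · rw [Ideal.span_singleton_le_iff_mem]
      exact Ideal.mul_mem_right _ _ hw
  apply IsRegularLocalRing.of_spanFinrank_maximalIdeal_le
  rw [hdim, hm]
  have h1 : (Ideal.span {y}).spanFinrank ≤ ({y} : Set R).ncard :=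
    Submodule.spanFinrank_span_le_ncard_of_finite (Set.finite_singleton y)
  rw [Set.ncard_singleton] at h1
  exact_mod_cast h1

/-- Localization at a prime `p` of a ring `C` integrally closed in an overring `B`. -/
theorem dvr_of_localization (C B R : Type u) [CommRing C] [CommRing B] [Algebra C B] [CommRing R]
    [Algebra C R] (hinj : Function.Injective (algebraMap C B))
    (hcl : ∀ b : B, IsIntegral C b → b ∈ (algebraMap C B).range) (p : Ideal C) [p.IsPrime]
    [IsLocalization.AtPrime R p] [IsNoetherianRing R] [IsLocalRing R] (hdim : ringKrullDim R = 1)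
    (c s : C) (hc : c ∈ p) (hs : s ∉ p) (b : B) (hb : algebraMap C B c * b = algebraMap C B s) :
    ∃ _ : IsDomain R, IsDiscreteValuationRing R := by
  let M := Algebra.algebraMapSubmonoid B p.primeCompl
  let T := Localization M
  have hM : p.primeCompl ≤ M.comap (algebraMap C B) := fun x hx => ⟨x, hx, rfl⟩
  let φ : R →+* T := IsLocalization.map T (algebraMap C B) hM
  let _ : Algebra R T := φ.toAlgebra
  have hφ : ∀ x : C, φ (algebraMap C R x) = algebraMap B T (algebraMap C B x) :=
    fun x => IsLocalization.map_eq hM x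
  have tower : IsScalarTower C R T := by
    refine IsScalarTower.of_algebraMap_eq fun x => ?_
    change _ = φ (algebraMap C R x)
    rw [hφ, ← IsScalarTower.algebraMap_apply C B T]
  have hinjT : Function.Injective (algebraMap R T) := by
    change Function.Injective φ
    rw [injective_iff_map_eq_zero]
    intro r hr
    obtain ⟨⟨a, s'⟩, has⟩ := IsLocalization.surj p.primeCompl r
    simp only at has
    have h1 : algebraMap B T (algebraMap C B a) = 0 := by
      rw [← hφ, ← has, map_mul, hr, zero_mul]
    rw [IsLocalization.map_eq_zero_iff M] at h1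
    obtain ⟨⟨_, s₁, hs₁, rfl⟩, hm⟩ := h1
    have h2 : s₁ * a = 0 := by
      apply hinj
      rw [map_mul, map_zero]
      exact hm
    have h3 : algebraMap C R a = 0 :=
      (IsLocalization.map_eq_zero_iff p.primeCompl R a).mpr ⟨⟨s₁, hs₁⟩, h2⟩
    rw [h3] at has
    exact ((IsLocalization.map_units R s').mul_left_eq_zero).mp has
  refine dvr_of_unit R T hinjT ?_ hdim (algebraMap C R c) ?_ ?_
  · intro t ht
    obtain ⟨m, hm⟩ := IsIntegral.exists_multiple_integral_of_isLocalization p.primeCompl (Rₘ := R) t ht
    obtain ⟨⟨b₁, ⟨_, s₁, hs₁, rfl⟩⟩, hbs⟩ := IsLocalization.surj M (m • t)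
    simp only at hbs
    have h1 : IsIntegral C (algebraMap B T b₁) := by
      rw [← hbs]
      have : algebraMap B T (algebraMap C B s₁) = algebraMap C T s₁ :=
        (IsScalarTower.algebraMap_apply C B T s₁).symm
      rw [this]
      exact hm.mul isIntegral_algebraMap
    obtain ⟨s₂, hs₂, h2⟩ := IsLocalization.exists_isIntegral_smul_of_isIntegral_map
      (Sₘ := T) p.primeCompl h1
    obtain ⟨c₂, hc₂⟩ := hcl _ h2
    -- `s₂ b₁ = c₂`, `m t s₁ = b₁`
    have hunit : ∀ x ∈ p.primeCompl, IsUnit (algebraMap C R x) :=
      fun x hx => IsLocalization.map_units R ⟨x, hx⟩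
    obtain ⟨v, hv⟩ := (hunit (s₂ * m * s₁) (p.primeCompl.mul_mem (p.primeCompl.mul_mem hs₂ m.2)
      hs₁)).exists_right_inv
    refine ⟨algebraMap C R c₂ * v, ?_⟩
    change φ _ = t
    rw [map_mul, hφ, hc₂]
    have e1 : algebraMap B T (s₂ • b₁) = φ (algebraMap C R (s₂ * m * s₁)) * t := by
      rw [Algebra.smul_def, map_mul, ← hbs, hφ, map_mul, map_mul, map_mul, map_mul,
        Submonoid.smul_def, Algebra.smul_def, ← IsScalarTower.algebraMap_apply C B T]
      have e2 : algebraMap B T (algebraMap C B m) = algebraMap C T m :=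
        (IsScalarTower.algebraMap_apply C B T _).symm
      rw [e2]
      ring
    rw [e1, mul_right_comm, ← map_mul, hv, map_one, one_mul]
  · rw [IsLocalization.AtPrime.to_map_mem_maximal_iff R p]
    exact hc
  · change IsUnit (φ (algebraMap C R c))
    rw [hφ]
    have h1 : IsUnit (algebraMap B T (algebraMap C B s)) :=
      IsLocalization.map_units T (⟨_, s, hs, rfl⟩ : M)
    rw [← hb, map_mul] at h1
    exact isUnit_of_mul_isUnit_left h1

end K384.DvrCl
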