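import Groth.Agent.Mor.K384.DvrCl
import Groth.Agent.Mor.K384.NormFinite
import Mathlib.AlgebraicGeometry.Noetherian
import Mathlib.RingTheory.Ideal.Height

/-!
# Codimension one points of a relative normalization outside the image are discrete valuation rings
-/

set_option autoImplicit false
universe u

open CategoryTheory CategoryTheory.Limits AlgebraicGeometry TopologicalSpace

namespace K384.DvrNorm

/-- In a Noetherian ring, a prime of height one contains an element outside all the strictly smaller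
primes. -/
theorem exists_param {C : Type*} [CommRing C] [IsNoetherianRing C] (p : Ideal C) [p.IsPrime]
    (h : p.height = 1) : ∃ c ∈ p, ∀ q : Ideal C, q.IsPrime → q ≤ p → q ≠ p → c ∉ q := by
  by_contra hcon
  push Not at hcon
  have h1 : (p : Set C) ⊆ ⋃ q ∈ minimalPrimes C, (id q : Ideal C) := by
    intro c hc
    obtain ⟨q, hq, hle, hne, hcq⟩ := hcon c hc
    have h2 := Ideal.height_add_one_le_of_lt_of_isPrime (lt_of_le_of_ne hle hne)
    rw [h] at h2
    have h3 : q.height = 0 := by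
      have h4 : q.height + 1 ≤ 0 + 1 := by simpa using h2
      exact le_antisymm ((ENat.add_le_add_iff_right (by simp)).mp h4) bot_le
    exact Set.mem_biUnion (Ideal.height_eq_zero_iff.mp h3) hcq
  obtain ⟨q, hq, hle⟩ := (Ideal.subset_union_prime_finite
    (minimalPrimes.finite_of_isNoetherianRing C) ⊤ ⊤ (fun i hi _ _ => hi.1.1)).mp h1
  have h2 : p ∈ minimalPrimes C := by
    have h3 : q ≤ p := hq.2 ⟨‹p.IsPrime›, bot_le⟩ hle
    have h4 : p = q := le_antisymm hle h3
    rw [h4]; exact hq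
  rw [Ideal.height_eq_zero_iff.mpr h2] at h
  exact zero_ne_one h

theorem mem_basicOpen_iff {X : Scheme.{u}} {V : X.Opens} (hV : IsAffineOpen V) (s : Γ(X, V)) (x : X)
    (hx : x ∈ V) : x ∈ X.basicOpen s ↔ s ∉ (hV.primeIdealOf ⟨x, hx⟩).asIdeal := by
  have h1 := hV.fromSpec_preimage_basicOpen s
  have h2 : hV.primeIdealOf ⟨x, hx⟩ ∈ hV.fromSpec ⁻¹ᵁ X.basicOpen s ↔
      hV.primeIdealOf ⟨x, hx⟩ ∈ PrimeSpectrum.basicOpen s :=
    Iff.of_eq (congrArg (fun U : (Spec Γ(X, V)).Opens => hV.primeIdealOf ⟨x, hx⟩ ∈ U) h1)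
  have h3 := hV.fromSpec_primeIdealOf ⟨x, hx⟩
  change hV.fromSpec (hV.primeIdealOf ⟨x, hx⟩) ∈ X.basicOpen s ↔ _ at h2
  rw [h3] at h2
  exact h2

theorem primeIdealOf_injective {X : Scheme.{u}} {V : X.Opens} (hV : IsAffineOpen V) (x y : V)
    (h : (hV.primeIdealOf x).asIdeal = (hV.primeIdealOf y).asIdeal) : x.1 = y.1 := by
  rw [← hV.fromSpec_primeIdealOf x, ← hV.fromSpec_primeIdealOf y, PrimeSpectrum.ext h]

theorem exists_unit_loc {X' Y : Scheme.{u}} [IsLocallyNoetherian Y] (g : Y ⟶ X') {V : X'.Opens}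
    (hV : IsAffineOpen V) (W : Y.Opens) (hW : W ≤ g ⁻¹ᵁ V) (hWc : IsCompact (W : Set Y))
    (x' : X') (hx' : x' ∈ V) (hx'g : x' ∉ Set.range g) [IsNoetherianRing Γ(X', V)]
    (hdim : ringKrullDim (X'.presheaf.stalk x') = 1) :
    ∃ (c s : Γ(X', V)) (b : Γ(Y, W)), c ∈ (hV.primeIdealOf ⟨x', hx'⟩).asIdeal ∧
      s ∉ (hV.primeIdealOf ⟨x', hx'⟩).asIdeal ∧ g.appLE V W hW c * b = g.appLE V W hW s := by
  classical
  set p := (hV.primeIdealOf ⟨x', hx'⟩).asIdeal with hp
  let _ : Algebra Γ(X', V) (X'.presheaf.stalk x') :=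
    TopCat.Presheaf.algebra_section_stalk X'.presheaf ⟨x', hx'⟩
  have hloc : IsLocalization.AtPrime (X'.presheaf.stalk x') p := hV.isLocalization_stalk ⟨x', hx'⟩
  have hht : p.height = 1 := by
    have h1 := IsLocalization.AtPrime.ringKrullDim_eq_height p (X'.presheaf.stalk x')
    rw [hdim] at h1
    exact_mod_cast h1.symm
  obtain ⟨c, hc, hcq⟩ := exists_param p hht
  have key : ∀ y : Y, y ∈ W → g y ∉ X'.basicOpen c →
      ∃ s : Γ(X', V), s ∉ p ∧ g y ∉ X'.basicOpen s := by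
    intro y hy hyc
    by_contra hcon
    push Not at hcon
    apply hyc
    rw [mem_basicOpen_iff hV c (g y) (hW hy)]
    apply hcq
    · infer_instance
    · intro s hs
      by_contra hsp
      have := hcon s hsp
      rw [mem_basicOpen_iff hV s (g y) (hW hy)] at this
      exact this hs
    · intro h
      exact hx'g ⟨y, primeIdealOf_injective hV ⟨g y, hW hy⟩ ⟨x', hx'⟩ h⟩
  have : CompactSpace W.toScheme := isCompact_iff_compactSpace.mp hWc
  have hWN : IsNoetherian W.toScheme := {}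
  let Z : Set W.toScheme := {w | g w.1 ∉ X'.basicOpen c}
  have hZ : IsClosed Z := by
    have : Z = (W.ι ⁻¹ᵁ g ⁻¹ᵁ X'.basicOpen c : Set W.toScheme)ᶜ := rfl
    rw [this]
    exact (W.ι ⁻¹ᵁ g ⁻¹ᵁ X'.basicOpen c).isOpen.isClosed_compl
  obtain ⟨S, hSf, hScl, hSirr, hZS⟩ := NoetherianSpace.exists_finite_set_isClosed_irreducible hZ
  have h1 : ∀ t ∈ S, ∃ s : Γ(X', V), s ∉ p ∧ ∀ w ∈ t, g w.1 ∉ X'.basicOpen s := by
    intro t ht
    obtain ⟨z, hz⟩ := QuasiSober.sober (hSirr t ht) (hScl t ht)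
    have hzt : z ∈ t := hz.mem
    have hzZ : z ∈ Z := by rw [hZS]; exact ⟨t, ht, hzt⟩
    obtain ⟨s, hs, hsz⟩ := key z.1 z.2 hzZ
    refine ⟨s, hs, fun w hw hwm => hsz ?_⟩
    have hzw : z ⤳ w := hz.specializes hw
    exact hzw.mem_open (W.ι ⁻¹ᵁ g ⁻¹ᵁ X'.basicOpen s).isOpen hwm
  choose! σ hσ hσ' using h1
  let s := ∏ t ∈ hSf.toFinset, σ t
  have hs : s ∉ p := by
    intro h
    obtain ⟨t, ht, h2⟩ := Ideal.IsPrime.prod_mem_iff.mp h
    exact hσ t (hSf.mem_toFinset.mp ht) h2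
  have hle : Y.basicOpen (g.appLE V W hW s) ≤ Y.basicOpen (g.appLE V W hW c) := by
    rw [Scheme.basicOpen_appLE, Scheme.basicOpen_appLE]
    intro y hy
    refine ⟨hy.1, ?_⟩
    by_contra hcon
    have hyZ : (⟨y, hy.1⟩ : W.toScheme) ∈ Z := hcon
    rw [hZS] at hyZ
    obtain ⟨t, ht, hyt⟩ := hyZ
    apply hσ' t ht _ hyt
    have h2 : g y ∈ X'.basicOpen s := hy.2
    rw [mem_basicOpen_iff hV _ _ (hW hy.1)] at h2 ⊢
    intro h3
    exact h2 (Ideal.IsPrime.prod_mem_iff.mpr ⟨t, hSf.mem_toFinset.mpr ht, h3⟩)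
  have hloc := isLocalization_basicOpen_of_qcqs (U := W) hWc
    (IsQuasiSeparated.of_quasiSeparatedSpace _) (g.appLE V W hW s)
  have hunit : IsUnit (algebraMap Γ(Y, W) Γ(Y, Y.basicOpen (g.appLE V W hW s)) (g.appLE V W hW c)) := by
    have h3 : IsUnit (Y.presheaf.map (homOfLE (Y.basicOpen_le (g.appLE V W hW c))).op
        (g.appLE V W hW c)) :=
      RingedSpace.isUnit_res_basicOpen Y.toRingedSpace (g.appLE V W hW c)
    have h4 := h3.map (Y.presheaf.map (homOfLE hle).op).hom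
    change IsUnit (Y.presheaf.map (homOfLE hle).op (Y.presheaf.map _ (g.appLE V W hW c))) at h4
    rw [← ConcreteCategory.comp_apply, ← Functor.map_comp] at h4
    exact h4
  obtain ⟨n, b, hb⟩ := (IsLocalization.Away.algebraMap_isUnit_iff (g.appLE V W hW s)).mp hunit
  refine ⟨c, s ^ n, b, hc, ?_, ?_⟩
  · intro h
    exact hs (Ideal.IsPrime.mem_of_pow_mem inferInstance _ h)
  · rw [map_pow]; exact hb.symm

section Norm

variable {X Y : Scheme.{u}} (f : Y ⟶ X) [QuasiCompact f] [QuasiSeparated f] {U : X.Opens}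
  (hU : IsAffineOpen U)

theorem le_preimage (U : X.Opens) :
    f ⁻¹ᵁ U ≤ f.toNormalization ⁻¹ᵁ f.fromNormalization ⁻¹ᵁ U := by
  simp [← Scheme.Hom.comp_preimage]

include hU in
theorem appLE_injective : Function.Injective
    (f.toNormalization.appLE (f.fromNormalization ⁻¹ᵁ U) (f ⁻¹ᵁ U) (le_preimage f U)).hom := by
  let := (f.app U).hom.toAlgebra
  rw [← f.normalizationObjIso_hom_val hU, CommRingCat.hom_comp]
  exact Subtype.val_injective.comp
    (f.normalizationObjIso hU).commRingCatIsoToRingEquiv.injective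

include hU in
theorem mem_range_of_isIntegral (b : Γ(Y, f ⁻¹ᵁ U)) (hb : (f.toNormalization.appLE
    (f.fromNormalization ⁻¹ᵁ U) (f ⁻¹ᵁ U) (le_preimage f U)).hom.IsIntegralElem b) :
    b ∈ (f.toNormalization.appLE (f.fromNormalization ⁻¹ᵁ U) (f ⁻¹ᵁ U)
      (le_preimage f U)).hom.range := by
  let algB : Algebra Γ(X, U) Γ(Y, f ⁻¹ᵁ U) := (f.app U).hom.toAlgebra
  let algC : Algebra Γ(X, U) Γ(f.normalization, f.fromNormalization ⁻¹ᵁ U) :=
    (f.fromNormalization.app U).hom.toAlgebra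
  let algCB : Algebra Γ(f.normalization, f.fromNormalization ⁻¹ᵁ U) Γ(Y, f ⁻¹ᵁ U) :=
    (f.toNormalization.appLE (f.fromNormalization ⁻¹ᵁ U) (f ⁻¹ᵁ U) (le_preimage f U)).hom.toAlgebra
  have tow : IsScalarTower Γ(X, U) Γ(f.normalization, f.fromNormalization ⁻¹ᵁ U)
      Γ(Y, f ⁻¹ᵁ U) := by
    refine IsScalarTower.of_algebraMap_eq' ?_
    change (f.app U).hom = (f.toNormalization.appLE (f.fromNormalization ⁻¹ᵁ U) (f ⁻¹ᵁ U)
      (le_preimage f U)).hom.comp (f.fromNormalization.app U).hom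
    rw [← CommRingCat.hom_comp, f.fromNormalization.app_eq_appLE,
      Scheme.Hom.appLE_comp_appLE]
    simp only [f.toNormalization_fromNormalization]
    rw [f.app_eq_appLE]
  have hint : Algebra.IsIntegral Γ(X, U) Γ(f.normalization, f.fromNormalization ⁻¹ᵁ U) := by
    rw [← algebraMap_isIntegral_iff]
    exact f.fromNormalization.isIntegral_app U hU
  have h1 : IsIntegral Γ(f.normalization, f.fromNormalization ⁻¹ᵁ U) b := hb
  have h2 : IsIntegral Γ(X, U) b := isIntegral_trans _ h1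
  refine ⟨(f.normalizationObjIso hU).inv ⟨b, h2⟩, ?_⟩
  rw [← f.normalizationObjIso_hom_val hU, CommRingCat.hom_comp]
  have h3 : (f.normalizationObjIso hU).hom ((f.normalizationObjIso hU).inv ⟨b, h2⟩) = ⟨b, h2⟩ :=
    (f.normalizationObjIso hU).commRingCatIsoToRingEquiv.apply_symm_apply _
  change ((f.normalizationObjIso hU).hom ((f.normalizationObjIso hU).inv ⟨b, h2⟩) :
    integralClosure Γ(X, U) Γ(Y, f ⁻¹ᵁ U)).1 = b
  rw [h3]

/-- Codimension one points of the normalization outside the image. -/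
theorem dvr_of_notMem_range [IsLocallyNoetherian X] [IsLocallyNoetherian Y]
    (hfin : IsFinite f.fromNormalization) (x' : f.normalization)
    (hdim : ringKrullDim (f.normalization.presheaf.stalk x') = 1)
    (hx' : x' ∉ Set.range f.toNormalization) :
    ∃ _ : IsDomain (f.normalization.presheaf.stalk x'),
      IsDiscreteValuationRing (f.normalization.presheaf.stalk x') := by
  obtain ⟨_, ⟨U, hU, rfl⟩, hxU, -⟩ := X.isBasis_affineOpens.exists_subset_of_mem_open
    (Set.mem_univ (f.fromNormalization x')) isOpen_univ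
  replace hU : IsAffineOpen U := hU
  have hV : IsAffineOpen (f.fromNormalization ⁻¹ᵁ U) := hU.preimage _
  have hXn : IsNoetherianRing Γ(X, U) := IsLocallyNoetherian.component_noetherian ⟨U, hU⟩
  have hCn : IsNoetherianRing Γ(f.normalization, f.fromNormalization ⁻¹ᵁ U) := by
    have h1 := ((isFinite_iff _).mp hfin).2 U hU
    algebraize [(f.fromNormalization.app U).hom]
    exact IsNoetherianRing.of_finite Γ(X, U) Γ(f.normalization, f.fromNormalization ⁻¹ᵁ U)
  obtain ⟨c, s, b, hc, hs, hb⟩ := exists_unit_loc f.toNormalization hV (f ⁻¹ᵁ U) (le_preimage f U)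
    (f.isCompact_preimage hU.isCompact) x' hxU hx' hdim
  let algCB : Algebra Γ(f.normalization, f.fromNormalization ⁻¹ᵁ U) Γ(Y, f ⁻¹ᵁ U) :=
    (f.toNormalization.appLE (f.fromNormalization ⁻¹ᵁ U) (f ⁻¹ᵁ U) (le_preimage f U)).hom.toAlgebra
  let algCR : Algebra Γ(f.normalization, f.fromNormalization ⁻¹ᵁ U)
      (f.normalization.presheaf.stalk x') :=
    TopCat.Presheaf.algebra_section_stalk f.normalization.presheaf ⟨x', hxU⟩
  have hloc : IsLocalization.AtPrime (f.normalization.presheaf.stalk x')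
    (hV.primeIdealOf ⟨x', hxU⟩).asIdeal := hV.isLocalization_stalk ⟨x', hxU⟩
  have hRn : IsNoetherianRing (f.normalization.presheaf.stalk x') :=
    IsLocalization.isNoetherianRing (hV.primeIdealOf ⟨x', hxU⟩).asIdeal.primeCompl _ hCn
  exact K384.DvrCl.dvr_of_localization Γ(f.normalization, f.fromNormalization ⁻¹ᵁ U)
    Γ(Y, f ⁻¹ᵁ U) (f.normalization.presheaf.stalk x') (appLE_injective f hU)
    (mem_range_of_isIntegral f hU) (hV.primeIdealOf ⟨x', hxU⟩).asIdeal hdim c s hc hs b hb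

end Norm

end K384.DvrNorm
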