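import Groth.Agent.Mor.K383.Tower
import Mathlib.AlgebraicGeometry.Morphisms.Basic

/-!
# Relative (weak) semi-normalization of a ring extension
-/

set_option autoImplicit false
universe u
open CategoryTheory AlgebraicGeometry Limits

namespace K384.SemiNorm

open K383.UH

theorem ker_le_of_isDominant {A B : Type u} [CommRing A] [CommRing B] (φ : A →+* B)
    [IsDominant (Spec.map (CommRingCat.ofHom φ))] : RingHom.ker φ ≤ nilradical A := by
  rw [← PrimeSpectrum.denseRange_comap_iff_ker_le_nilRadical]
  exact IsDominant.denseRange (f := Spec.map (CommRingCat.ofHom φ))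

section

variable {A B : Type u} [CommRing A] [CommRing B] [Algebra A B]

theorem ker_sub (C : Subalgebra A B) (hker : RingHom.ker (algebraMap A B) ≤ nilradical A) :
    RingHom.ker (algebraMap A C) ≤ nilradical A := by
  intro a ha
  apply hker
  rw [RingHom.mem_ker] at ha ⊢
  exact congrArg Subtype.val ha

theorem le_map_val {C D : Subalgebra A B} (hCD : C ≤ D) (E : Subalgebra A D)
    (h : ∀ c (hc : c ∈ C), (⟨c, hCD hc⟩ : D) ∈ E) : C ≤ E.map D.val :=
  fun c hc => ⟨⟨c, hCD hc⟩, h c hc, rfl⟩

theorem eq_top_of_le_map {D : Subalgebra A B} (E : Subalgebra A D) (h : D ≤ E.map D.val) (d : D) :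
    d ∈ E := by
  obtain ⟨e, he, hed⟩ := h d.2
  have : e = d := Subtype.ext hed
  exact this ▸ he

theorem isUnivHomeo_sSup (S : Set (Subalgebra A B))
    (hker : RingHom.ker (algebraMap A B) ≤ nilradical A)
    (h : ∀ C ∈ S, FlatMor.IsUnivHomeo (Spec.map (CommRingCat.ofHom (algebraMap A C)))) :
    FlatMor.IsUnivHomeo (Spec.map (CommRingCat.ofHom
      (algebraMap A (sSup S : Subalgebra A B)))) := by
  rw [isUnivHomeo_iff]
  refine ⟨?_, ker_sub _ hker, ?_⟩
  · have hle : sSup S ≤ integralClosure A B := by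
      apply sSup_le
      intro C hC c hc
      have h1 := ((isUnivHomeo_iff _).mp (h C hC)).1 ⟨c, hc⟩
      have h2 : IsIntegral A (⟨c, hc⟩ : C) := h1
      exact h2.map C.val
    intro b
    have h3 : IsIntegral A (b : B) := hle b.2
    exact (isIntegral_algHom_iff (sSup S : Subalgebra A B).val Subtype.val_injective).mp h3
  · intro K _ g₁ g₂ h12
    ext b
    refine eq_top_of_le_map (eqSub g₁ g₂ h12) (sSup_le ?_) b
    intro C hC
    refine le_map_val (le_sSup hC) _ ?_
    intro c hc
    have h1 := ((isUnivHomeo_iff _).mp (h C hC)).2.2 K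
      (g₁.comp (Subalgebra.inclusion (le_sSup hC)).toRingHom)
      (g₂.comp (Subalgebra.inclusion (le_sSup hC)).toRingHom) (by
        ext a
        exact RingHom.congr_fun h12 a)
    exact RingHom.congr_fun h1 ⟨c, hc⟩

theorem residue_sSup (S : Set (Subalgebra A B))
    (h : ∀ C ∈ S, ∀ x : Spec (CommRingCat.of C),
        Function.Surjective ((Spec.map (CommRingCat.ofHom (algebraMap A C))).residueFieldMap x))
    (x : Spec (CommRingCat.of (sSup S : Subalgebra A B))) :
    Function.Surjective ((Spec.map (CommRingCat.ofHom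
      (algebraMap A (sSup S : Subalgebra A B)))).residueFieldMap x) := by
  revert x
  rw [residue_iff]
  intro Q _ b
  refine eq_top_of_le_map (resSub Q) (sSup_le ?_) b
  intro C hC
  refine le_map_val (le_sSup hC) _ ?_
  intro c hc
  obtain ⟨s, a, hs, hsa⟩ := (residue_iff _).mp (h C hC)
    (Q.comap (Subalgebra.inclusion (le_sSup hC)).toRingHom) ⟨c, hc⟩
  exact ⟨s, a, hs, hsa⟩

theorem isUnivHomeo_range (hker : RingHom.ker (algebraMap A B) ≤ nilradical A)
    {C : Type u} [CommRing C] [Algebra A C] (g : C →ₐ[A] B)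
    (h : FlatMor.IsUnivHomeo (Spec.map (CommRingCat.ofHom (algebraMap A C)))) :
    FlatMor.IsUnivHomeo (Spec.map (CommRingCat.ofHom (algebraMap A g.range))) := by
  rw [isUnivHomeo_iff] at h ⊢
  refine ⟨?_, ker_sub _ hker, ?_⟩
  · rintro ⟨_, c, rfl⟩
    have h1 : IsIntegral A c := h.1 c
    exact h1.map g.rangeRestrict
  · intro K _ g₁ g₂ h12
    have h1 := h.2.2 K (g₁.comp g.rangeRestrict.toRingHom) (g₂.comp g.rangeRestrict.toRingHom) (by
      ext a
      have e : g.rangeRestrict (algebraMap A C a) = algebraMap A g.range a :=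
        g.rangeRestrict.commutes a
      have h2 := RingHom.congr_fun h12 a
      simp only [RingHom.comp_apply] at h2 ⊢
      change g₁ (g.rangeRestrict (algebraMap A C a)) = g₂ (g.rangeRestrict (algebraMap A C a))
      rw [e]; exact h2)
    ext ⟨_, c, rfl⟩
    exact RingHom.congr_fun h1 c

theorem residue_range {C : Type u} [CommRing C] [Algebra A C] (g : C →ₐ[A] B)
    (h : ∀ x : Spec (CommRingCat.of C),
        Function.Surjective ((Spec.map (CommRingCat.ofHom (algebraMap A C))).residueFieldMap x))
    (x : Spec (CommRingCat.of g.range)) :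
    Function.Surjective ((Spec.map (CommRingCat.ofHom (algebraMap A g.range))).residueFieldMap x) := by
  revert x
  rw [residue_iff] at h ⊢
  intro Q _ b
  obtain ⟨c, hc⟩ := g.rangeRestrict_surjective b
  obtain ⟨s, a, hs, hsa⟩ := h (Q.comap g.rangeRestrict.toRingHom) c
  have e (a : A) : g.rangeRestrict (algebraMap A C a) = algebraMap A g.range a :=
    g.rangeRestrict.commutes a
  refine ⟨s, a, ?_, ?_⟩
  · rw [← e]; exact hs
  · rw [← e, ← e, ← hc, ← map_mul, ← map_sub]; exact hsa

end

end K384.SemiNorm
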