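import Groth.Agent.Mor.K383.Tower
import Groth.Agent.S7402
import Groth.Agent.S7403
import Groth.Agent.Proet.Ind

/-!
# Universal homeomorphisms of rings are ind-(finitely presented universal homeomorphisms)
-/

set_option autoImplicit false
universe u
open CategoryTheory AlgebraicGeometry Limits

namespace K384.UHInd

open K383.UH

/-- Residue field extensions are trivial, in terms of elements. -/
def ResMap {A B : Type u} [CommRing A] [CommRing B] (φ : A →+* B) : Prop :=
  ∀ (Q : Ideal B) [Q.IsPrime] (b : B), ∃ s a : A, φ s ∉ Q ∧ φ s * b - φ a ∈ Q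

/-- Universal homeomorphism, with trivial residue field extensions if `r` holds. -/
def W (r : Prop) {A B : Type u} [CommRing A] [CommRing B] (φ : A →+* B) : Prop :=
  FlatMor.IsUnivHomeo (Spec.map (CommRingCat.ofHom φ)) ∧ (r → ResMap φ)

section

variable {A B C : Type u} [CommRing A] [CommRing B] [CommRing C]

theorem ResMap.comp {φ : A →+* B} {ψ : B →+* C} (h : ResMap φ) (h' : ResMap ψ) :
    ResMap (ψ.comp φ) := by
  intro Q _ c
  obtain ⟨s, a, hs, hsa⟩ := h' Q c
  obtain ⟨s₁, a₁, hs₁, hsa₁⟩ := h (Q.comap ψ) s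
  obtain ⟨s₂, a₂, hs₂, hsa₂⟩ := h (Q.comap ψ) a
  rw [Ideal.mem_comap] at hs₁ hs₂ hsa₁ hsa₂
  rw [map_sub, map_mul] at hsa₁ hsa₂
  refine ⟨s₂ * a₁, s₁ * a₂, ?_, ?_⟩
  · simp only [RingHom.comp_apply, map_mul]
    intro hmem
    rcases Ideal.IsPrime.mem_or_mem inferInstance hmem with h1 | h1
    · exact hs₂ h1
    · have h2 := add_mem hsa₁ h1
      rw [sub_add_cancel] at h2
      rcases Ideal.IsPrime.mem_or_mem inferInstance h2 with h3 | h3
      · exact hs₁ h3
      · exact hs h3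
  · simp only [RingHom.comp_apply, map_mul]
    -- s₁ s₂ (s c - a), s₂ c (s₁ s - a₁), s₁ (s₂ a - a₂)
    have e1 := Q.mul_mem_left (ψ (φ s₁) * ψ (φ s₂)) hsa
    have e2 := Q.mul_mem_left (ψ (φ s₂) * c) hsa₁
    have e3 := Q.mul_mem_left (ψ (φ s₁)) hsa₂
    have := add_mem (sub_mem e1 e2) e3
    convert this using 1
    ring

theorem W.comp {r : Prop} {φ : A →+* B} {ψ : B →+* C} (h : W r φ) (h' : W r ψ) :
    W r (ψ.comp φ) := by
  refine ⟨?_, fun hr => (h.2 hr).comp (h'.2 hr)⟩
  have h1 := (isUnivHomeo_iff _).mp h.1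
  have h2 := (isUnivHomeo_iff _).mp h'.1
  rw [isUnivHomeo_iff]
  refine ⟨RingHom.IsIntegral.trans _ _ h1.1 h2.1, ?_, ?_⟩
  · intro a ha
    have h3 : φ a ∈ nilradical B := h2.2.1 ha
    obtain ⟨n, hn⟩ := h3
    have h4 : a ^ n ∈ nilradical A := h1.2.1 (by rw [RingHom.mem_ker, map_pow, hn])
    obtain ⟨m, hm⟩ := h4
    exact ⟨n * m, by rw [pow_mul]; exact hm⟩
  · intro K _ g₁ g₂ h12
    apply h2.2.2
    apply h1.2.2
    exact h12

theorem resMap_of_surjective {φ : A →+* B} (h : Function.Surjective φ) : ResMap φ := by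
  intro Q _ b
  obtain ⟨a, rfl⟩ := h b
  refine ⟨1, a, ?_, ?_⟩
  · rw [map_one]; exact fun h => (inferInstance : Q.IsPrime).ne_top ((Ideal.eq_top_iff_one _).2 h)
  · rw [map_one, one_mul, sub_self]; exact Q.zero_mem

theorem W_of_surjective {r : Prop} {φ : A →+* B} (h : Function.Surjective φ)
    (hker : RingHom.ker φ ≤ nilradical A) : W r φ := by
  refine ⟨?_, fun _ => resMap_of_surjective h⟩
  rw [isUnivHomeo_iff]
  refine ⟨RingHom.isIntegral_of_surjective _ h, hker, ?_⟩
  intro K _ g₁ g₂ h12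
  ext b
  obtain ⟨a, rfl⟩ := h b
  exact RingHom.congr_fun h12 a

/-- The kernel of `g` is nilpotent if `g ∘ ψ` and `ψ` are universal homeomorphisms. -/
theorem ker_le {ψ : A →+* B} {g : B →+* C}
    (h : FlatMor.IsUnivHomeo (Spec.map (CommRingCat.ofHom ψ)))
    (h' : FlatMor.IsUnivHomeo (Spec.map (CommRingCat.ofHom (g.comp ψ)))) :
    RingHom.ker g ≤ nilradical B := by
  have h1 : FlatMor.IsUnivHomeo (Spec.map (CommRingCat.ofHom g)) := by
    rw [CommRingCat.ofHom_comp, Spec.map_comp] at h'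
    exact Groth.Agent.FlatA.UnivHomeo.isUnivHomeo_of_postcomp _ _ h' h
  exact ((isUnivHomeo_iff _).mp h1).2.1

end

section Step

open Polynomial

variable {D B : Type u} [CommRing D] [CommRing B] (g : D →+* B)

theorem quot_fp (s : Set D) (hs : s.Finite) :
    (Ideal.Quotient.mk (Ideal.span s)).FinitePresentation := by
  refine RingHom.FinitePresentation.of_surjective _ Ideal.Quotient.mk_surjective ?_
  rw [Ideal.mk_ker]
  exact ⟨hs.toFinset, by simp⟩

theorem poly_quot_fp (s : Set D[X]) (hs : s.Finite) :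
    (algebraMap D (D[X] ⧸ Ideal.span s)).FinitePresentation := by
  have h1 : (algebraMap D D[X]).FinitePresentation :=
    RingHom.finitePresentation_algebraMap.mpr inferInstance
  exact (quot_fp s hs).comp h1

theorem step_aux {r : Prop} (hker : RingHom.ker g ≤ nilradical D) (b : B) (a : D) (ha : g a = 0)
    (s : Set (D ⧸ Ideal.span {a})[X]) (hs : s.Finite)
    (hW : W r (algebraMap (D ⧸ Ideal.span {a}) ((D ⧸ Ideal.span {a})[X] ⧸ Ideal.span s)))
    (hb : ∀ g₁ : (D ⧸ Ideal.span {a}) →+* B, g₁.comp (Ideal.Quotient.mk _) = g →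
      ∀ P ∈ s, P.eval₂ g₁ b = 0) :
    ∃ (D' : Type u) (_ : CommRing D') (ψ : D →+* D') (g' : D' →+* B),
      g'.comp ψ = g ∧ ψ.FinitePresentation ∧ W r ψ ∧ b ∈ g'.range := by
  have hle : Ideal.span {a} ≤ RingHom.ker g := by
    rw [Ideal.span_le]; rintro _ rfl; exact ha
  let g₁ : (D ⧸ Ideal.span {a}) →+* B := Ideal.Quotient.lift _ g hle
  have hg₁ : g₁.comp (Ideal.Quotient.mk _) = g := by ext x; rfl
  have hle' : Ideal.span s ≤ RingHom.ker (eval₂RingHom g₁ b) := by
    rw [Ideal.span_le]; intro P hP; exact hb g₁ hg₁ P hP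
  let g' : ((D ⧸ Ideal.span {a})[X] ⧸ Ideal.span s) →+* B :=
    Ideal.Quotient.lift _ (eval₂RingHom g₁ b) hle'
  refine ⟨_, inferInstance, (algebraMap (D ⧸ Ideal.span {a})
    ((D ⧸ Ideal.span {a})[X] ⧸ Ideal.span s)).comp (Ideal.Quotient.mk _), g', ?_, ?_, ?_, ?_⟩
  · ext x
    change eval₂ g₁ b (C (Ideal.Quotient.mk _ x)) = g x
    rw [eval₂_C]
    rfl
  · exact (poly_quot_fp s hs).comp (quot_fp _ (Set.finite_singleton a))
  · refine W.comp (W_of_surjective Ideal.Quotient.mk_surjective ?_) hW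
    rw [Ideal.mk_ker]
    exact hle.trans hker
  · refine ⟨Ideal.Quotient.mk _ X, ?_⟩
    change eval₂ g₁ b X = b
    rw [eval₂_X]

theorem step_sq {r : Prop} (hker : RingHom.ker g ≤ nilradical D) (b : B)
    (h2 : b ^ 2 ∈ g.range) (h3 : b ^ 3 ∈ g.range) :
    ∃ (D' : Type u) (_ : CommRing D') (ψ : D →+* D') (g' : D' →+* B),
      g'.comp ψ = g ∧ ψ.FinitePresentation ∧ W r ψ ∧ b ∈ g'.range := by
  obtain ⟨x, hx⟩ := h2
  obtain ⟨y, hy⟩ := h3
  have h := Groth.Agent.S7402.result (D ⧸ Ideal.span {x ^ 3 - y ^ 2}) (Ideal.Quotient.mk _ x)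
    (Ideal.Quotient.mk _ y) (by
      rw [← map_pow, ← map_pow, Ideal.Quotient.eq]
      exact Ideal.subset_span rfl)
  refine step_aux g hker b (x ^ 3 - y ^ 2) (by rw [map_sub, map_pow, map_pow, hx, hy]; ring) _
    (by simp) ⟨h.1, fun _ => (residue_iff _).mp h.2⟩ ?_
  rintro g₁ hg₁ P hP
  have e (z : D) : g₁ (Ideal.Quotient.mk _ z) = g z := RingHom.congr_fun hg₁ z
  simp only [Set.mem_insert_iff, Set.mem_singleton_iff] at hP
  rcases hP with rfl | rfl
  · rw [eval₂_sub, eval₂_pow, eval₂_X, eval₂_C, e, hx, sub_self]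
  · rw [eval₂_sub, eval₂_pow, eval₂_X, eval₂_C, e, hy, sub_self]

theorem step_p (hker : RingHom.ker g ≤ nilradical D) (b : B) (p : ℕ) (hp : p.Prime)
    (h2 : (p : B) * b ∈ g.range) (h3 : b ^ p ∈ g.range) :
    ∃ (D' : Type u) (_ : CommRing D') (ψ : D →+* D') (g' : D' →+* B),
      g'.comp ψ = g ∧ ψ.FinitePresentation ∧ W False ψ ∧ b ∈ g'.range := by
  obtain ⟨y, hy⟩ := h2
  obtain ⟨x, hx⟩ := h3
  have h := Groth.Agent.S7403.result (D ⧸ Ideal.span {(p : D) ^ p * x - y ^ p}) p hp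
    (Ideal.Quotient.mk _ x) (Ideal.Quotient.mk _ y) (by
      rw [← map_natCast (Ideal.Quotient.mk (Ideal.span {(p : D) ^ p * x - y ^ p})), ← map_pow,
        ← map_pow, ← map_mul, Ideal.Quotient.eq]
      exact Ideal.subset_span rfl)
  refine step_aux g hker b ((p : D) ^ p * x - y ^ p)
    (by rw [map_sub, map_mul, map_pow, map_pow, hx, hy, map_natCast]; ring) _
    (by simp) ⟨h, False.elim⟩ ?_
  rintro g₁ hg₁ P hP
  have e (z : D) : g₁ (Ideal.Quotient.mk _ z) = g z := RingHom.congr_fun hg₁ z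
  simp only [Set.mem_insert_iff, Set.mem_singleton_iff] at hP
  rcases hP with rfl | rfl
  · rw [eval₂_sub, eval₂_pow, eval₂_X, eval₂_C, e, hx, sub_self]
  · rw [eval₂_sub, eval₂_mul, eval₂_X, eval₂_C, eval₂_C, e, hy, map_natCast, sub_self]

end Step

section Tower

variable {A B : Type u} [CommRing A] [CommRing B]

theorem tower_concat [Algebra A B] {P : Subalgebra A B → B → Prop} {l : List B} {b : B}
    (h : Tower P (l ++ [b])) : Tower P l ∧ P (Algebra.adjoin A {b : B | b ∈ l}) b := by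
  rw [tower_iff] at h
  constructor
  · rw [tower_iff]
    intro i hi
    have h1 := h i (by rw [List.length_append]; omega)
    rwa [List.take_append_of_le_length hi.le, List.getElem_append_left hi] at h1
  · have h1 := h l.length (by rw [List.length_append, List.length_singleton]; omega)
    rw [List.take_append_of_le_length le_rfl, List.take_length,
      List.getElem_append_right le_rfl] at h1
    simpa using h1

/-- `B' ⊆ range g` for a factorization. -/
def rangeSub {φ : A →+* B} {D : Type u} [CommRing D] {ψ : A →+* D} {g : D →+* B}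
    (h : g.comp ψ = φ) : Subalgebra φ.range B :=
  { g.range with
    algebraMap_mem' := by
      rintro ⟨_, a, rfl⟩
      exact ⟨ψ a, RingHom.congr_fun h a⟩ }

theorem adjoin_le_range {φ : A →+* B} {D : Type u} [CommRing D] {ψ : A →+* D} {g : D →+* B}
    (h : g.comp ψ = φ) (l : List B) (hl : ∀ b ∈ l, b ∈ g.range) (b : B)
    (hb : b ∈ Algebra.adjoin φ.range {b : B | b ∈ l}) : b ∈ g.range := by
  have h1 : Algebra.adjoin φ.range {b : B | b ∈ l} ≤ rangeSub h := Algebra.adjoin_le hl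
  exact h1 hb

theorem exists_of_tower {r : Prop} {φ : A →+* B} (hφ : W r φ)
    (P : Subalgebra φ.range B → B → Prop)
    (hP : ∀ C b, P C b → ∀ (D : Type u) [CommRing D] (g : D →+* B),
      RingHom.ker g ≤ nilradical D → (∀ c ∈ C, c ∈ g.range) →
        ∃ (D' : Type u) (_ : CommRing D') (ψ : D →+* D') (g' : D' →+* B),
          g'.comp ψ = g ∧ ψ.FinitePresentation ∧ W r ψ ∧ b ∈ g'.range)
    (l : List B) (hl : Tower P l) :
    ∃ (D : Type u) (_ : CommRing D) (ψ : A →+* D) (g : D →+* B),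
      g.comp ψ = φ ∧ ψ.FinitePresentation ∧ W r ψ ∧ ∀ b ∈ l, b ∈ g.range := by
  induction l using List.reverseRecOn with
  | nil =>
    refine ⟨A, inferInstance, RingHom.id A, φ, RingHom.comp_id φ,
      RingHom.FinitePresentation.id A, ?_, by simp⟩
    refine W_of_surjective Function.surjective_id ?_
    rw [(RingHom.injective_iff_ker_eq_bot _).1 Function.injective_id]
    exact bot_le
  | append_singleton l b ih =>
    obtain ⟨hl₁, hl₂⟩ := tower_concat hl
    obtain ⟨D, _, ψ, g, hg, hfp, hW, hmem⟩ := ih hl₁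
    obtain ⟨D', _, ψ', g', hg', hfp', hW', hmem'⟩ := hP _ _ hl₂ D g
      (ker_le hW.1 (by rw [hg]; exact hφ.1)) (adjoin_le_range hg l hmem)
    refine ⟨D', inferInstance, ψ'.comp ψ, g', ?_, hfp'.comp hfp, hW.comp hW', ?_⟩
    · rw [← RingHom.comp_assoc, hg', hg]
    · intro c hc
      rcases List.mem_append.mp hc with hc | hc
      · obtain ⟨d, hd⟩ := hmem c hc
        exact ⟨ψ' d, by rw [← hd, ← hg']; rfl⟩
      · rw [List.mem_singleton] at hc
        rw [hc]; exact hmem'

theorem isUnivHomeo_range {φ : A →+* B}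
    (h : FlatMor.IsUnivHomeo (Spec.map (CommRingCat.ofHom φ))) :
    FlatMor.IsUnivHomeo (Spec.map (CommRingCat.ofHom (algebraMap φ.range B))) := by
  rw [isUnivHomeo_iff] at h ⊢
  refine ⟨?_, ?_, ?_⟩
  · intro b
    obtain ⟨p, hp, hpb⟩ := h.1 b
    refine ⟨p.map φ.rangeRestrict, hp.map _, ?_⟩
    rw [Polynomial.eval₂_map]
    exact hpb
  · have h1 : RingHom.ker (algebraMap φ.range B) = ⊥ :=
      (RingHom.injective_iff_ker_eq_bot _).1 Subtype.val_injective
    rw [h1]; exact bot_le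
  · intro K _ g₁ g₂ h12
    apply h.2.2
    ext a
    exact RingHom.congr_fun h12 ⟨φ a, a, rfl⟩

theorem residue_range {φ : A →+* B} (h : ResMap φ) : ResMap (algebraMap φ.range B) := by
  intro Q _ b
  obtain ⟨s, a, hs, hsa⟩ := h Q b
  exact ⟨⟨φ s, s, rfl⟩, ⟨φ a, a, rfl⟩, hs, hsa⟩

theorem exists_factor_true {φ : A →+* B} (hφ : W True φ) (E : Finset B) :
    ∃ (D : Type u) (_ : CommRing D) (ψ : A →+* D) (g : D →+* B),
      g.comp ψ = φ ∧ ψ.FinitePresentation ∧ W True ψ ∧ ∀ b ∈ E, b ∈ g.range := by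
  obtain ⟨l, hl, hE⟩ := towers_of_isUnivHomeo_residue (A := φ.range) (B := B)
    Subtype.val_injective (isUnivHomeo_range hφ.1)
    ((residue_iff _).mpr (residue_range (hφ.2 trivial))) E
  obtain ⟨D, _, ψ, g, hg, hfp, hW, hmem⟩ := exists_of_tower hφ _ (by
    intro C b hb D _ g hker hC
    exact step_sq g hker b (hC _ hb.1) (hC _ hb.2)) l hl
  exact ⟨D, inferInstance, ψ, g, hg, hfp, hW, fun b hb => adjoin_le_range hg l hmem b (hE hb)⟩

theorem exists_factor_false {φ : A →+* B} (hφ : W False φ) (E : Finset B) :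
    ∃ (D : Type u) (_ : CommRing D) (ψ : A →+* D) (g : D →+* B),
      g.comp ψ = φ ∧ ψ.FinitePresentation ∧ W False ψ ∧ ∀ b ∈ E, b ∈ g.range := by
  obtain ⟨l, hl, hE⟩ := towers_of_isUnivHomeo (A := φ.range) (B := B)
    Subtype.val_injective (isUnivHomeo_range hφ.1) E
  obtain ⟨D, _, ψ, g, hg, hfp, hW, hmem⟩ := exists_of_tower hφ _ (by
    intro C b hb D _ g hker hC
    rcases hb with hb | ⟨p, hp, hb⟩
    · exact step_sq g hker b (hC _ hb.1) (hC _ hb.2)
    · exact step_p g hker b p hp (hC _ hb.1) (hC _ hb.2)) l hl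
  exact ⟨D, inferInstance, ψ, g, hg, hfp, hW, fun b hb => adjoin_le_range hg l hmem b (hE hb)⟩

/-- Every map from a finitely presented algebra factors. -/
theorem exists_factor {r : Prop} {φ : A →+* B} (hφ : W r φ)
    (hE : ∀ E : Finset B, ∃ (D : Type u) (_ : CommRing D) (ψ : A →+* D) (g : D →+* B),
      g.comp ψ = φ ∧ ψ.FinitePresentation ∧ W r ψ ∧ ∀ b ∈ E, b ∈ g.range)
    {C : Type u} [CommRing C] (χ : A →+* C) (hχ : χ.FinitePresentation) (f : C →+* B)
    (hf : f.comp χ = φ) :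
    ∃ (D : Type u) (_ : CommRing D) (u : C →+* D) (v : D →+* B),
      v.comp u = f ∧ (u.comp χ).FinitePresentation ∧ W r (u.comp χ) := by
  classical
  algebraize [χ]
  obtain ⟨n, π, hπ, s, hs⟩ := (inferInstance : Algebra.FinitePresentation A C)
  obtain ⟨D, _, ψ, g, hg, hfp, hW, hmem⟩ := hE (Finset.univ.image fun i : Fin n =>
    f (π (MvPolynomial.X i)))
  choose d hd using fun i : Fin n => hmem (f (π (MvPolynomial.X i)))
    (Finset.mem_image.mpr ⟨i, Finset.mem_univ _, rfl⟩)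
  let F : MvPolynomial (Fin n) A →+* D := MvPolynomial.eval₂Hom ψ d
  have hF : g.comp F = f.comp π.toRingHom := by
    apply MvPolynomial.ringHom_ext
    · intro a
      have e1 : F (MvPolynomial.C a) = ψ a := MvPolynomial.eval₂_C _ _ _
      have e2 : π (MvPolynomial.C a) = χ a := π.commutes a
      change g (F (MvPolynomial.C a)) = f (π (MvPolynomial.C a))
      rw [e1, e2]
      exact (RingHom.congr_fun hg a).trans (RingHom.congr_fun hf a).symm
    · intro i
      have e1 : F (MvPolynomial.X i) = d i := MvPolynomial.eval₂_X _ _ _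
      change g (F (MvPolynomial.X i)) = f (π (MvPolynomial.X i))
      rw [e1, hd]
  have hker : RingHom.ker g ≤ nilradical D := ker_le hW.1 (by rw [hg]; exact hφ.1)
  have hsub : (F '' (s : Set (MvPolynomial (Fin n) A))) ⊆ RingHom.ker g := by
    rintro _ ⟨x, hx, rfl⟩
    have h1 : x ∈ RingHom.ker π.toRingHom := by rw [← hs]; exact Ideal.subset_span hx
    have h2 : g (F x) = f (π x) := RingHom.congr_fun hF x
    have h3 : π x = 0 := h1
    change g (F x) = 0
    rw [h2, h3, map_zero]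
  have hle : Ideal.span (F '' (s : Set (MvPolynomial (Fin n) A))) ≤ RingHom.ker g :=
    Ideal.span_le.mpr hsub
  let q := Ideal.Quotient.mk (Ideal.span (F '' (s : Set (MvPolynomial (Fin n) A))))
  have hkerπ : RingHom.ker π.toRingHom ≤ RingHom.ker (q.comp F) := by
    rw [← hs, Ideal.span_le]
    intro x hx
    change q (F x) = 0
    exact Ideal.Quotient.eq_zero_iff_mem.mpr (Ideal.subset_span ⟨x, hx, rfl⟩)
  let u : C →+* _ := RingHom.liftOfSurjective π.toRingHom hπ ⟨q.comp F, hkerπ⟩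
  have hu : u.comp π.toRingHom = q.comp F := RingHom.liftOfRightInverse_comp _ _ _ _
  have huχ : u.comp χ = q.comp ψ := by
    ext a
    have e2 : π (MvPolynomial.C a) = χ a := π.commutes a
    have h1 : u (π (MvPolynomial.C a)) = q (F (MvPolynomial.C a)) := RingHom.congr_fun hu _
    have e1 : F (MvPolynomial.C a) = ψ a := MvPolynomial.eval₂_C _ _ _
    rw [e2, e1] at h1
    exact h1
  refine ⟨_, inferInstance, u, Ideal.Quotient.lift _ g hle, ?_, ?_, ?_⟩
  · ext c
    obtain ⟨x, rfl⟩ := hπ c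
    have h1 : u (π x) = q (F x) := RingHom.congr_fun hu _
    rw [RingHom.comp_apply]
    change Ideal.Quotient.lift _ g hle (u (π x)) = f (π x)
    rw [h1]
    exact RingHom.congr_fun hF x
  · rw [huχ]
    exact (quot_fp _ (s.finite_toSet.image F)).comp hfp
  · rw [huχ]
    refine hW.comp (W_of_surjective Ideal.Quotient.mk_surjective ?_)
    rw [Ideal.mk_ker]
    exact hle.trans hker

theorem ind_W {r : Prop} {φ : A →+* B} (hφ : W r φ)
    (hE : ∀ E : Finset B, ∃ (D : Type u) (_ : CommRing D) (ψ : A →+* D) (g : D →+* B),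
      g.comp ψ = φ ∧ ψ.FinitePresentation ∧ W r ψ ∧ ∀ b ∈ E, b ∈ g.range) :
    ∃ (J : Type u) (_ : SmallCategory J) (_ : IsFiltered J) (F : J ⥤ Under (CommRingCat.of A))
      (c : Limits.Cocone F) (_ : Limits.IsColimit c),
      (∀ j, (F.obj j).hom.hom.FinitePresentation ∧ W r (F.obj j).hom.hom) ∧
      Nonempty (c.pt ≅ Under.mk (CommRingCat.ofHom φ)) := by
  let P : ObjectProperty (Under (CommRingCat.of A)) :=
    fun S => S.hom.hom.FinitePresentation ∧ W r S.hom.hom
  obtain ⟨J, _, _, pres, hJ⟩ := Groth.Agent.Proet.Ind.ind_of_factor P (fun _ h => h.1)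
    (Under.mk (CommRingCat.ofHom φ)) (by
      intro Z hZ g
      obtain ⟨D, _, u, v, hvu, hfp, hW⟩ := exists_factor hφ hE Z.hom.hom hZ g.right.hom
        (congr(($(Under.w g)).hom))
      refine ⟨Under.mk (CommRingCat.ofHom (u.comp Z.hom.hom)), Under.homMk (CommRingCat.ofHom u) rfl,
        Under.homMk (CommRingCat.ofHom v) ?_, ?_, hfp, hW⟩
      · ext a
        have h1 : g.right.hom (Z.hom.hom a) = φ a := congr(($(Under.w g)).hom a)
        have h2 := RingHom.congr_fun hvu (Z.hom.hom a)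
        change v (u (Z.hom.hom a)) = φ a
        rw [← h1]; exact h2
      · apply Under.UnderMorphism.ext
        ext x
        exact RingHom.congr_fun hvu x)
  exact ⟨J, inferInstance, inferInstance, pres.diag, ⟨_, pres.ι⟩, pres.isColimit, hJ, ⟨Iso.refl _⟩⟩

end Tower

end K384.UHInd
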